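import Cfsg.Agent.Lib.StChar.Gate
import Cfsg.Agent.Lib.GLUnip.Count
import Cfsg.Agent.Lib.Char.Virtual
import Cfsg.Agent.Lib.Char.PermChar
import Cfsg.Prelude.Def_ParabolicCharacters

/-!
# The Steinberg character of a finite group with a (B,N)-pair

`stChar` is the alternating sum of the permutation characters on the standard parabolic subgroups. Orbits on pairs
of cosets correspond to elements without descents, so `stChar` has norm one.
-/

set_option autoImplicit false

namespace Cfsg.Agent.Lib.StChar.Inner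

open Cfsg Cfsg.Agent.Lib.BNPair.Basic Cfsg.Agent.Lib.BNPair.Parabolic Cfsg.Agent.Lib.ChevOrder.BNCount
open Cfsg.Agent.Lib.BNPair.CoxeterExchange Cfsg.Agent.Lib.ChevOrder.Cox Cfsg.Agent.Lib.StChar.Cox
open Cfsg.Agent.Lib.StChar.Gate MulAction

variable {G : Type*} [Group G] {P : Cfsg.BNPair G} {ι : Type*} {e : ι → G} {he : ∀ i, e i ∈ P.S}

section Cells

/-- Left multiplication by an element of `P_J` moves the cell in `W_J`. -/
theorem cell_par_mul {J : Set ι} {g : G} (hg : g ∈ P.parabolic (e '' J)) (h : G) :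
    ∃ u ∈ par (ff e he) J, cell P (g * h) = u * cell P h := by
  have hg' : g ∈ Subgroup.closure ((P.B : Set G) ∪ e '' J) := by
    rw [Subgroup.closure_union, Subgroup.closure_eq]
    exact hg
  induction hg' using Subgroup.closure_induction_left with
  | one => exact ⟨1, Subgroup.one_mem _, by simp⟩
  | mul_left x hx y hy ih =>
    have hy' : y ∈ P.parabolic (e '' J) := by
      have := hy
      rwa [Subgroup.closure_union, Subgroup.closure_eq] at this
    obtain ⟨u, hu, huh⟩ := ih hy'
    rw [mul_assoc]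
    rcases hx with hx | ⟨i, hi, rfl⟩
    · exact ⟨u, hu, by rw [cell_mul_left hx, huh]⟩
    · rcases cell_e_mul (he := he) i (y * h) with h1 | h1
      · exact ⟨ff e he i * u, Subgroup.mul_mem _ (f_mem_par hi) hu, by rw [h1, huh, mul_assoc]⟩
      · exact ⟨u, hu, by rw [h1, huh]⟩
  | inv_mul_cancel x hx y hy ih =>
    have hy' : y ∈ P.parabolic (e '' J) := by
      have := hy
      rwa [Subgroup.closure_union, Subgroup.closure_eq] at this
    obtain ⟨u, hu, huh⟩ := ih hy'
    rw [mul_assoc]
    rcases hx with hx | ⟨i, hi, rfl⟩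
    · exact ⟨u, hu, by rw [cell_mul_left (P.B.inv_mem hx), huh]⟩
    · rcases cell_e_inv_mul (he := he) i (y * h) with h1 | h1
      · exact ⟨ff e he i * u, Subgroup.mul_mem _ (f_mem_par hi) hu, by rw [h1, huh, mul_assoc]⟩
      · exact ⟨u, hu, by rw [h1, huh]⟩

/-- Right multiplication by an element of `P_K` moves the cell in `W_K`. -/
theorem cell_mul_par {K : Set ι} {g : G} (hg : g ∈ P.parabolic (e '' K)) (h : G) :
    ∃ v ∈ par (ff e he) K, cell P (h * g) = cell P h * v := by
  obtain ⟨u, hu, huh⟩ := cell_par_mul (he := he) (Subgroup.inv_mem _ hg) h⁻¹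
  refine ⟨u⁻¹, Subgroup.inv_mem _ hu, ?_⟩
  have e1 : h * g = (g⁻¹ * h⁻¹)⁻¹ := by group
  rw [e1, cell_inv, huh, cell_inv]
  group


variable (hs : Setup (ff e he) (LL P))
include hs

/-- Every double coset contains an element without descents. -/
theorem exists_reduced (J K : Set ι) (w : WW P) :
    ∃ u ∈ par (ff e he) J, ∃ v ∈ par (ff e he) K,
      MinL (ff e he) (LL P) J (u * w * v) ∧ MinR (ff e he) (LL P) K (u * w * v) := by
  classical
  have hne : ∃ k, ∃ u ∈ par (ff e he) J, ∃ v ∈ par (ff e he) K, LL P (u * w * v) = k :=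
    ⟨_, 1, Subgroup.one_mem _, 1, Subgroup.one_mem _, rfl⟩
  obtain ⟨u, hu, v, hv, h⟩ := Nat.find_spec hne
  refine ⟨u, hu, v, hv, fun i hi => ?_, fun i hi => ?_⟩
  · have h1 := Nat.find_min' hne ⟨_, Subgroup.mul_mem _ (f_mem_par hi) hu, v, hv, rfl⟩
    have h2 := hs.ne i (u * w * v)
    have e1 : ff e he i * u * w * v = ff e he i * (u * w * v) := by group
    rw [e1] at h1
    omega
  · have h1 := Nat.find_min' hne ⟨u, hu, _, Subgroup.mul_mem _ hv (f_mem_par hi), rfl⟩
    have h2 := ne_right hs i (u * w * v)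
    have e1 : u * w * (v * ff e he i) = u * w * v * ff e he i := by group
    rw [e1] at h1
    omega

/-- **Orbits on pairs of cosets.** -/
theorem card_orbits (J K : Set ι) :
    Nat.card (orbitRel.Quotient G ((G ⧸ P.parabolic (e '' J)) × (G ⧸ P.parabolic (e '' K)))) =
      Nat.card {d : WW P // MinL (ff e he) (LL P) J d ∧ MinR (ff e he) (LL P) K d} := by
  set A := P.parabolic (e '' J) with hA
  set A' := P.parabolic (e '' K) with hA'
  let rep : WW P → G := fun w => ((Quotient.out w : P.N) : G)
  have hrep : ∀ w : WW P, cell P (rep w) = w := by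
    intro w
    simp only [rep]
    rw [cell_coe]
    exact QuotientGroup.out_eq' w
  have hrepA : ∀ w ∈ par (ff e he) J, rep w ∈ A := by
    intro w hw
    rw [hA, mem_parabolic_iff_cell (he := he) hs, hrep]
    exact hw
  have hrepA' : ∀ w ∈ par (ff e he) K, rep w ∈ A' := by
    intro w hw
    rw [hA', mem_parabolic_iff_cell (he := he) hs, hrep]
    exact hw
  symm
  refine Nat.card_congr (Equiv.ofBijective
    (fun d => Quotient.mk'' ((QuotientGroup.mk 1 : G ⧸ A), (QuotientGroup.mk (rep d.1) : G ⧸ A'))) ⟨?_, ?_⟩)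
  · rintro ⟨d, hd1, hd2⟩ ⟨d', hd1', hd2'⟩ he'
    have h1 := Quotient.eq''.1 he'
    obtain ⟨x, hx⟩ := MulAction.mem_orbit_iff.1 h1
    have hx1 : x • (QuotientGroup.mk 1 : G ⧸ A) = QuotientGroup.mk 1 := congrArg Prod.fst hx
    have hx2 : x • (QuotientGroup.mk (rep d') : G ⧸ A') = QuotientGroup.mk (rep d) := congrArg Prod.snd hx
    rw [smul_mk, mul_one, QuotientGroup.eq] at hx1
    have hxA : x ∈ A := by simpa using hx1
    rw [smul_mk, QuotientGroup.eq] at hx2
    have e1 : rep d = x * (rep d' * ((x * rep d')⁻¹ * rep d)) := by group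
    obtain ⟨v, hv, hvv⟩ := cell_mul_par (he := he) hx2 (rep d')
    obtain ⟨u, hu, huu⟩ := cell_par_mul (he := he) hxA (rep d' * ((x * rep d')⁻¹ * rep d))
    rw [← e1, hrep, hvv, hrep] at huu
    have h2 := dc_unique hs _ u v d' d hu hv rfl hd1' hd2' hd1 hd2 (by rw [huu, mul_assoc])
    exact Subtype.ext h2
  · intro q
    induction q using Quotient.inductionOn' with
    | h p =>
      obtain ⟨a, a'⟩ := p
      obtain ⟨x, rfl⟩ := QuotientGroup.mk_surjective a
      obtain ⟨y, rfl⟩ := QuotientGroup.mk_surjective a'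
      obtain ⟨u, hu, v, hv, hL, hR⟩ := exists_reduced hs J K (cell P (x⁻¹ * y))
      set d := u * cell P (x⁻¹ * y) * v with hd
      refine ⟨⟨d, hL, hR⟩, ?_⟩
      have hw : cell P (x⁻¹ * y) = u⁻¹ * d * v⁻¹ := by rw [hd]; group
      let n : P.N := (Quotient.out (u⁻¹ : WW P) : P.N) * (Quotient.out d : P.N) *
        (Quotient.out (v⁻¹ : WW P) : P.N)
      have hn : cell P (x⁻¹ * y) = QuotientGroup.mk n := by
        rw [hw]
        simp only [n, QuotientGroup.mk_mul]
        rw [QuotientGroup.out_eq', QuotientGroup.out_eq', QuotientGroup.out_eq']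
      obtain ⟨b, hb, b', hb', hg⟩ := mem_C.1 (mem_C_cell _ hn)
      have hp : b * rep u⁻¹ ∈ A :=
        A.mul_mem (B_le_parabolic _ hb) (hrepA _ (Subgroup.inv_mem _ hu))
      have hp' : rep v⁻¹ * b' ∈ A' :=
        A'.mul_mem (hrepA' _ (Subgroup.inv_mem _ hv)) (B_le_parabolic _ hb')
      have hg2 : x⁻¹ * y = (b * rep u⁻¹) * rep d * (rep v⁻¹ * b') := by
        rw [hg]
        simp only [n, rep, Subgroup.coe_mul]
        group
      refine Eq.symm (Quotient.eq''.2 (MulAction.mem_orbit_iff.2 ⟨x * (b * rep u⁻¹), ?_⟩))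
      refine Prod.ext ?_ ?_
      · show (x * (b * rep u⁻¹)) • (QuotientGroup.mk 1 : G ⧸ A) = QuotientGroup.mk x
        rw [smul_mk, QuotientGroup.eq]
        have e1 : (x * (b * rep u⁻¹) * 1)⁻¹ * x = (b * rep u⁻¹)⁻¹ := by group
        rw [e1]
        exact A.inv_mem hp
      · show (x * (b * rep u⁻¹)) • (QuotientGroup.mk (rep d) : G ⧸ A') = QuotientGroup.mk y
        rw [smul_mk, QuotientGroup.eq]
        have e1 : (x * (b * rep u⁻¹) * rep d)⁻¹ * y = rep v⁻¹ * b' := by
          have h3 : y = x * ((b * rep u⁻¹) * rep d * (rep v⁻¹ * b')) := by rw [← hg2]; group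
          rw [h3]
          group
        rw [e1]
        exact hp'

/-- The alternating sum over pairs of subsets. -/
theorem sum_card_reduced [Fintype ι] [DecidableEq ι] [Finite (WW P)] :
    ∑ J : Finset ι, ∑ K : Finset ι, (-1 : ℤ) ^ J.card * (-1 : ℤ) ^ K.card *
      (Nat.card {d : WW P // MinL (ff e he) (LL P) (J : Set ι) d ∧
        MinR (ff e he) (LL P) (K : Set ι) d} : ℤ) = 1 := by
  classical
  have _ : Fintype (WW P) := Fintype.ofFinite _
  let AL : WW P → Finset ι := fun d => Finset.univ.filter fun i => LL P d < LL P (ff e he i * d)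
  let AR : WW P → Finset ι := fun d => Finset.univ.filter fun i => LL P d < LL P (d * ff e he i)
  have hcard : ∀ J K : Finset ι, (Nat.card {d : WW P // MinL (ff e he) (LL P) (J : Set ι) d ∧
      MinR (ff e he) (LL P) (K : Set ι) d} : ℤ) =
      ∑ d : WW P, (if J ⊆ AL d then 1 else 0) * (if K ⊆ AR d then 1 else 0) := by
    intro J K
    rw [Nat.card_eq_fintype_card, Fintype.card_subtype, Finset.card_filter]
    push_cast
    refine Finset.sum_congr rfl fun d _ => ?_
    have h1 : MinL (ff e he) (LL P) (J : Set ι) d ↔ J ⊆ AL d := by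
      constructor
      · intro h i hi
        exact Finset.mem_filter.2 ⟨Finset.mem_univ _, h i hi⟩
      · intro h i hi
        exact (Finset.mem_filter.1 (h hi)).2
    have h2 : MinR (ff e he) (LL P) (K : Set ι) d ↔ K ⊆ AR d := by
      constructor
      · intro h i hi
        exact Finset.mem_filter.2 ⟨Finset.mem_univ _, h i hi⟩
      · intro h i hi
        exact (Finset.mem_filter.1 (h hi)).2
    by_cases h3 : J ⊆ AL d <;> by_cases h4 : K ⊆ AR d <;> simp [h1, h2, h3, h4]
  have hsum : ∀ A : Finset ι, ∑ J : Finset ι, (-1 : ℤ) ^ J.card * (if J ⊆ A then 1 else 0) =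
      if A = ∅ then 1 else 0 := by
    intro A
    rw [← Finset.sum_powerset_neg_one_pow_card]
    have h3 : A.powerset = Finset.univ.filter fun J => J ⊆ A := by
      ext J
      simp
    rw [h3, Finset.sum_filter]
    refine Finset.sum_congr rfl fun J _ => ?_
    split_ifs <;> simp
  have hpar : ∀ w : WW P, w ∈ par (ff e he) (Set.univ : Set ι) := by
    intro w
    obtain ⟨l, rfl, -⟩ := hs.ex w
    exact pr_mem_par fun i _ => Set.mem_univ i
  obtain ⟨y, hy, hy1, hy2⟩ := exists_top hs (Set.univ : Set ι)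
  have hAL : ∀ d, AL d = ∅ ↔ d = y := by
    intro d
    constructor
    · intro h
      refine top_unique hs (hpar d) hy (fun i _ => ?_) hy1
      have h1 : i ∉ AL d := by rw [h]; simp
      have h2 : ¬ LL P d < LL P (ff e he i * d) := fun h3 =>
        h1 (Finset.mem_filter.2 ⟨Finset.mem_univ _, h3⟩)
      have h3 := hs.ne i d
      omega
    · rintro rfl
      refine Finset.filter_eq_empty_iff.2 fun i _ => ?_
      have := hy1 i (Set.mem_univ i)
      omega
  have hAR : AR y = ∅ := by
    refine Finset.filter_eq_empty_iff.2 fun i _ => ?_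
    have := hy2 i (Set.mem_univ i)
    omega
  calc ∑ J : Finset ι, ∑ K : Finset ι, (-1 : ℤ) ^ J.card * (-1 : ℤ) ^ K.card *
        (Nat.card {d : WW P // MinL (ff e he) (LL P) (J : Set ι) d ∧
          MinR (ff e he) (LL P) (K : Set ι) d} : ℤ)
      = ∑ J : Finset ι, ∑ K : Finset ι, ∑ d : WW P, (-1 : ℤ) ^ J.card * (-1 : ℤ) ^ K.card *
          ((if J ⊆ AL d then 1 else 0) * (if K ⊆ AR d then 1 else 0)) := by
        simp only [hcard, Finset.mul_sum]
    _ = ∑ d : WW P, ∑ J : Finset ι, ∑ K : Finset ι, (-1 : ℤ) ^ J.card * (-1 : ℤ) ^ K.card *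
          ((if J ⊆ AL d then 1 else 0) * (if K ⊆ AR d then 1 else 0)) := by
        rw [Finset.sum_congr rfl fun J _ => Finset.sum_comm, Finset.sum_comm]
    _ = ∑ d : WW P, (∑ J : Finset ι, (-1 : ℤ) ^ J.card * (if J ⊆ AL d then 1 else 0)) *
          (∑ K : Finset ι, (-1 : ℤ) ^ K.card * (if K ⊆ AR d then 1 else 0)) := by
        refine Finset.sum_congr rfl fun d _ => ?_
        rw [Finset.sum_mul_sum]
        refine Finset.sum_congr rfl fun J _ => Finset.sum_congr rfl fun K _ => ?_
        ring
    _ = ∑ d : WW P, (if AL d = ∅ then 1 else 0) * (if AR d = ∅ then 1 else 0) := by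
        simp only [hsum]
    _ = 1 := by
        rw [Finset.sum_eq_single y]
        · rw [if_pos ((hAL y).2 rfl), if_pos hAR, one_mul]
        · intro d _ hd
          rw [if_neg fun h => hd ((hAL d).1 h), zero_mul]
        · simp

end Cells

/-! ### The Steinberg character -/

section St

variable [Fintype ι] [DecidableEq ι]

/-- The alternating sum of the permutation characters on the standard parabolic subgroups. -/
noncomputable def stChar (P : Cfsg.BNPair G) (e : ι → G) : G → ℂ := fun g =>
  ∑ K : Finset ι, (-1 : ℂ) ^ K.card * fixedPointCharacter (P.parabolic (e '' (K : Set ι))) g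

variable (hs : Setup (ff e he) (LL P))
include hs

theorem stChar_norm [Fintype G] [Finite (WW P)] :
    (Nat.card G : ℂ)⁻¹ * ∑ g : G, stChar P e g * stChar P e g = 1 := by
  classical
  have h1 : ∀ J K : Finset ι, (Nat.card G : ℂ)⁻¹ * ∑ g : G,
      fixedPointCharacter (P.parabolic (e '' (J : Set ι))) g *
        fixedPointCharacter (P.parabolic (e '' (K : Set ι))) g =
      (Nat.card {d : WW P // MinL (ff e he) (LL P) (J : Set ι) d ∧
        MinR (ff e he) (LL P) (K : Set ι) d} : ℂ) := by
    intro J K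
    rw [Cfsg.Agent.Lib.GLUnip.Count.inner_fix, card_orbits hs]
  have h2 := sum_card_reduced (e := e) (he := he) hs
  have h3 : (∑ J : Finset ι, ∑ K : Finset ι, (-1 : ℂ) ^ J.card * (-1 : ℂ) ^ K.card *
      (Nat.card {d : WW P // MinL (ff e he) (LL P) (J : Set ι) d ∧
        MinR (ff e he) (LL P) (K : Set ι) d} : ℂ)) = 1 := by
    exact_mod_cast congrArg (Int.cast : ℤ → ℂ) h2
  calc (Nat.card G : ℂ)⁻¹ * ∑ g : G, stChar P e g * stChar P e g
      = (Nat.card G : ℂ)⁻¹ * ∑ g : G, ∑ J : Finset ι, ∑ K : Finset ι,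
          (-1 : ℂ) ^ J.card * (-1 : ℂ) ^ K.card *
            (fixedPointCharacter (P.parabolic (e '' (J : Set ι))) g *
              fixedPointCharacter (P.parabolic (e '' (K : Set ι))) g) := by
        congr 1
        refine Finset.sum_congr rfl fun g _ => ?_
        rw [stChar, Finset.sum_mul_sum]
        refine Finset.sum_congr rfl fun J _ => Finset.sum_congr rfl fun K _ => ?_
        ring
    _ = (Nat.card G : ℂ)⁻¹ * ∑ J : Finset ι, ∑ K : Finset ι, ∑ g : G,
          (-1 : ℂ) ^ J.card * (-1 : ℂ) ^ K.card *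
            (fixedPointCharacter (P.parabolic (e '' (J : Set ι))) g *
              fixedPointCharacter (P.parabolic (e '' (K : Set ι))) g) := by
        congr 1
        rw [Finset.sum_comm]
        exact Finset.sum_congr rfl fun J _ => Finset.sum_comm
    _ = ∑ J : Finset ι, ∑ K : Finset ι, (-1 : ℂ) ^ J.card * (-1 : ℂ) ^ K.card *
          ((Nat.card G : ℂ)⁻¹ * ∑ g : G,
            fixedPointCharacter (P.parabolic (e '' (J : Set ι))) g *
              fixedPointCharacter (P.parabolic (e '' (K : Set ι))) g) := by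
        rw [Finset.mul_sum]
        refine Finset.sum_congr rfl fun J _ => ?_
        rw [Finset.mul_sum]
        refine Finset.sum_congr rfl fun K _ => ?_
        rw [← Finset.mul_sum]
        ring
    _ = 1 := by
        simp only [h1]
        exact h3

theorem parabolic_univ : P.parabolic (e '' ((Finset.univ : Finset ι) : Set ι)) = ⊤ := by
  rw [eq_top_iff]
  intro g _
  rw [mem_parabolic_iff_cell hs]
  obtain ⟨l, hl, -⟩ := hs.ex (cell P g)
  rw [← hl]
  exact pr_mem_par fun i _ => Finset.mem_coe.2 (Finset.mem_univ i)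

/-- Values of the Steinberg character on `B`. -/
theorem stChar_apply [Finite G] {y : G} (hy : y ∈ P.B) {w : WW P}
    (htop : ∀ i : ι, LL P (w * ff e he i) < LL P w) :
    stChar P e y = (Nat.card {C : G ⧸ P.B // cellQ P C = w ∧ y • C = C} : ℂ) := by
  classical
  have hw : w ∈ par (ff e he) ((Finset.univ : Finset ι) : Set ι) := by
    obtain ⟨l, hl, -⟩ := hs.ex w
    rw [← hl]
    exact pr_mem_par fun i _ => Finset.mem_coe.2 (Finset.mem_univ i)
  have h1 := sum_fixIn_top hs Finset.univ hy hw (fun i _ => htop i)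
  have h2 : ∀ K : Finset ι, fixIn (P.parabolic (e '' (Set.univ : Set ι)))
      (P.parabolic (e '' (K : Set ι))) y = Nat.card (MulAction.fixedBy (G ⧸ P.parabolic (e '' (K : Set ι))) y) := by
    intro K
    rw [fixIn, ← Finset.coe_univ, parabolic_univ hs]
    refine Nat.card_congr (Equiv.subtypeEquivRight fun c => ?_)
    constructor
    · rintro ⟨-, h⟩
      exact h
    · intro h
      obtain ⟨x, rfl⟩ := QuotientGroup.mk_surjective c
      exact ⟨⟨x, Subgroup.mem_top _, rfl⟩, h⟩
  rw [Finset.powerset_univ] at h1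
  have h3 := congrArg (Int.cast : ℤ → ℂ) h1
  push_cast at h3
  simp only [h2] at h3
  rw [stChar]
  exact h3

/-- The Steinberg character is a generalized character of norm one and positive degree, so irreducible. -/
theorem stChar_isIrr [Finite G] : IsIrrCharacter G (stChar P e) := by
  classical
  have _ : Fintype G := Fintype.ofFinite _
  have hgen : IsGeneralizedCharacter G (stChar P e) := by
    have h1 : stChar P e = ∑ K : Finset ι, (((-1 : ℤ) ^ K.card : ℤ) : ℂ) •
        fixedPointCharacter (P.parabolic (e '' (K : Set ι))) := by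
      funext g
      simp [stChar, Finset.sum_apply]
    rw [h1]
    refine Cfsg.Agent.Lib.Char.Virtual.isGeneralized_finset_sum _ fun K _ => ?_
    refine Cfsg.Agent.Lib.Char.Virtual.isGeneralized_intCast_smul ?_ _
    refine Cfsg.Agent.Lib.Char.Virtual.isGeneralized_of_isCharacter ?_
    have _ : Fintype (G ⧸ P.parabolic (e '' (K : Set ι))) := Fintype.ofFinite _
    exact Cfsg.Agent.Lib.Char.PermChar.isCharacter_perm
      (G := G) (Ω := G ⧸ P.parabolic (e '' (K : Set ι)))
  have hconj : ∀ g, (starRingEnd ℂ) (stChar P e g) = stChar P e g := by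
    intro g
    simp only [stChar, map_sum, map_mul, map_pow, map_neg, map_one, fixedPointCharacter,
      Complex.conj_natCast]
  have hnorm : classInner (stChar P e) (stChar P e) = 1 := by
    rw [classInner]
    simp only [hconj]
    exact stChar_norm hs
  obtain ⟨w, -, -, htop⟩ := exists_top hs ((Finset.univ : Finset ι) : Set ι)
  have htop' : ∀ i : ι, LL P (w * ff e he i) < LL P w := fun i => htop i (Finset.mem_coe.2 (Finset.mem_univ i))
  have hpos : 0 < Nat.card {C : G ⧸ P.B // cellQ P C = w ∧ (1 : G) • C = C} := by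
    have : Nonempty {C : G ⧸ P.B // cellQ P C = w ∧ (1 : G) • C = C} := by
      obtain ⟨n, rfl⟩ := QuotientGroup.mk_surjective w
      refine ⟨⟨QuotientGroup.mk (n : G), ?_, one_smul _ _⟩⟩
      rw [cellQ_mk, cell_coe]
    exact Nat.card_pos
  have hdeg := stChar_apply hs P.B.one_mem htop'
  rcases Cfsg.Agent.Lib.Char.Virtual.isSignedIrr_of_norm_one hgen hnorm with h | h
  · exact h
  · exfalso
    obtain ⟨n, hn, hn'⟩ := Cfsg.Agent.Lib.Char.Virtual.exists_degree_of_isIrr h
    rw [Pi.neg_apply, hdeg] at hn'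
    have h2 : ((Nat.card {C : G ⧸ P.B // cellQ P C = w ∧ (1 : G) • C = C} + n : ℕ) : ℂ) = 0 := by
      push_cast
      linear_combination -hn'
    have h3 : Nat.card {C : G ⧸ P.B // cellQ P C = w ∧ (1 : G) • C = C} + n = 0 := by
      exact_mod_cast h2
    omega

end St

end Cfsg.Agent.Lib.StChar.Inner
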