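import Cfsg.Agent.Lib.StChar.Inner
import Cfsg.Agent.Lib.ChevBN.Levi
import Cfsg.Agent.Lib.ChevOrder.Chev

/-!
# The Steinberg character of a Chevalley group

The group given by the relations is a group with a (B,N)-pair; `D.steinbergCharacter F` is the abstract
`stChar` of this pair, so it is irreducible.
-/

set_option autoImplicit false
set_option linter.unusedSectionVars false

namespace Cfsg.Agent.Lib.StChar.Chev

open Cfsg Cfsg.Lie Cfsg.Agent.Lib.ChevBN.Elem Cfsg.Agent.Lib.ChevBN.Entries Cfsg.Agent.Lib.ChevBN.Table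
open Cfsg.Agent.Lib.ChevBN.Collect Cfsg.Agent.Lib.ChevBN.Rel Cfsg.Agent.Lib.ChevBN.Torus
open Cfsg.Agent.Lib.ChevBN.Monomial Cfsg.Agent.Lib.ChevBN.Core Cfsg.Agent.Lib.ChevBN.Pair
open Cfsg.Agent.Lib.ChevTri.Level Cfsg.Agent.Lib.ChevTri.Datum
open Cfsg.Agent.Lib.BNPair.Basic Cfsg.Agent.Lib.BNPair.Parabolic
open Cfsg.Agent.Lib.ChevOrder.BNCount Cfsg.Agent.Lib.ChevOrder.Chev
open Cfsg.Agent.Lib.StChar.Inner Cfsg.Agent.Lib.ChevBN.Levi

variable {D : ChevalleyDatum} {F : Type*} [Field F] {η : ℕ → ℕ → ℤ}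
  (hR : Sys D F η) (hT : Tbl D)

include hR hT

theorem borel_le_G : D.borelSubgroup F ≤ D.group F := sup_le (U_le_G hR hT) (H_le_G hR hT)

/-- The parabolic subgroups of the pair are the standard parabolic subgroups. -/
theorem parabolic_pair (K : Finset (Fin D.rank)) :
    (pair hR hT).parabolic (ee hR hT '' (K : Set (Fin D.rank))) =
      D.parabolicIn F (K.map Fin.valEmbedding) := by
  apply le_antisymm
  · refine sup_le ?_ ?_
    · intro g hg
      refine Subgroup.mem_subgroupOf.2 ?_
      exact le_sup_left (a := D.borelSubgroup F) ((mem_PB hR hT).1 hg)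
    · rw [Subgroup.closure_le]
      rintro _ ⟨i, hi, rfl⟩
      refine Subgroup.mem_subgroupOf.2 ?_
      rw [parabolic_eq hR hT]
      refine Subgroup.mem_sup_right (Subgroup.subset_closure ⟨i, ?_, i.2, rfl⟩)
      simp only [Finset.coe_map, Set.mem_image, Finset.mem_coe]
      exact ⟨i, hi, rfl⟩
  · intro g hg
    have h1 : (g : GL D.Idx F) ∈ D.parabolicSubgroup F ((K.map Fin.valEmbedding : Finset ℕ) : Set ℕ) :=
      Subgroup.mem_subgroupOf.1 hg
    rw [parabolic_eq hR hT] at h1
    have hle : D.borelSubgroup F ⊔ NJ hR ((K.map Fin.valEmbedding : Finset ℕ) : Set ℕ) ≤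
        ((pair hR hT).parabolic (ee hR hT '' (K : Set (Fin D.rank)))).map (D.group F).subtype := by
      refine sup_le ?_ ?_
      · intro x hx
        refine ⟨⟨x, borel_le_G hR hT hx⟩, ?_, rfl⟩
        exact B_le_parabolic _ ((mem_PB hR hT).2 hx)
      · rw [NJ, Subgroup.closure_le]
        rintro _ ⟨j, hj, hl, rfl⟩
        simp only [Finset.coe_map, Set.mem_image, Finset.mem_coe] at hj
        obtain ⟨i, hi, rfl⟩ := hj
        exact ⟨ee hR hT i, closure_le_parabolic _ (Subgroup.subset_closure ⟨i, hi, rfl⟩), rfl⟩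
    obtain ⟨g', hg', he⟩ := hle h1
    have : g' = g := Subtype.ext he
    rwa [this] at hg'

/-- The Steinberg character as an abstract alternating sum. -/
theorem steinberg_eq : D.steinbergCharacter F = stChar (pair hR hT) (ee hR hT) := by
  funext g
  rw [ChevalleyDatum.steinbergCharacter, stChar]
  symm
  refine Finset.sum_bij (fun K _ => K.map Fin.valEmbedding) ?_ ?_ ?_ ?_
  · intro K _
    rw [Finset.mem_powerset]
    intro x hx
    obtain ⟨i, -, rfl⟩ := Finset.mem_map.1 hx
    exact Finset.mem_range.2 i.2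
  · intro K _ K' _ h
    exact Finset.map_injective _ h
  · intro J hJ
    have hJ' := Finset.mem_powerset.1 hJ
    refine ⟨Finset.univ.filter fun i : Fin D.rank => (i : ℕ) ∈ J, Finset.mem_univ _, ?_⟩
    ext x
    simp only [Finset.mem_map, Finset.mem_filter, Finset.mem_univ, true_and, Fin.valEmbedding_apply]
    constructor
    · rintro ⟨i, hi, rfl⟩
      exact hi
    · intro hx
      exact ⟨⟨x, Finset.mem_range.1 (hJ' hx)⟩, hx, rfl⟩
  · intro K _
    rw [parabolic_pair hR hT, Finset.card_map]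

/-- **The Steinberg character is irreducible.** -/
theorem steinberg_isIrr [Finite F] : IsIrrCharacter ↥(D.group F) (D.steinbergCharacter F) := by
  rw [steinberg_eq hR hT]
  exact stChar_isIrr (setupW hR hT)

end Cfsg.Agent.Lib.StChar.Chev
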