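import Cfsg.Agent.Lib.ChevOrder.Cox

/-!
# Minimal coset representatives and double cosets for the exchange condition

`MinL J y` says that `y` has no left descent in `J`; then `y` has minimal length in `W_J y`, and lengths add
along `W_J y`.  An element with no left ascent in `J` has every element of `W_J` as a left factor; it is unique
in `W_J`.  A double coset `W_J d W_K` contains only one element without left descent in `J` and right descent
in `K`.
-/

set_option autoImplicit false

namespace Cfsg.Agent.Lib.StChar.Cox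

open Cfsg.Agent.Lib.BNPair.CoxeterExchange Cfsg.Agent.Lib.ChevOrder.Cox

variable {W ι : Type*} [Group W] {f : ι → W} {L : W → ℕ}

/-- No left descent in `J`. -/
def MinL (f : ι → W) (L : W → ℕ) (J : Set ι) (y : W) : Prop := ∀ i ∈ J, L y < L (f i * y)

/-- No right descent in `J`. -/
def MinR (f : ι → W) (L : W → ℕ) (J : Set ι) (y : W) : Prop := ∀ i ∈ J, L y < L (y * f i)

theorem len_inv (hs : Setup f L) (w : W) : L w⁻¹ = L w := by
  have key : ∀ w : W, L w⁻¹ ≤ L w := by
    intro w
    obtain ⟨l, rfl, hl⟩ := hs.ex w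
    rw [← pr_reverse hs, ← hl]
    have := hs.le l.reverse
    simpa using this
  have h1 := key w
  have h2 := key w⁻¹
  rw [inv_inv] at h2
  omega

theorem minR_iff (hs : Setup f L) {J : Set ι} {y : W} : MinR f L J y ↔ MinL f L J y⁻¹ := by
  constructor
  · intro h i hi
    have := h i hi
    have e : f i * y⁻¹ = (y * f i)⁻¹ := by rw [mul_inv_rev, inv_f hs]
    rw [e, len_inv hs, len_inv hs]
    exact this
  · intro h i hi
    have := h i hi
    have e : f i * y⁻¹ = (y * f i)⁻¹ := by rw [mul_inv_rev, inv_f hs]
    rw [e, len_inv hs, len_inv hs] at this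
    exact this

/-- The first letter of a reduced word in `W_J`. -/
theorem exists_first (hs : Setup f L) {J : Set ι} {a : W} (ha : a ∈ par f J) (ha1 : a ≠ 1) :
    ∃ i ∈ J, ∃ a' ∈ par f J, a = f i * a' ∧ L a' + 1 = L a := by
  obtain ⟨l, hl, rfl, hlen⟩ := exists_reduced_par hs ha
  cases l with
  | nil => exact absurd rfl ha1
  | cons i l =>
    refine ⟨i, hl i (by simp), pr f l, pr_mem_par fun k hk => hl k (by simp [hk]), by simp, ?_⟩
    rw [pr_cons] at hlen ⊢
    have h1 := hs.le l
    have h2 := hs.mul_le i (pr f l)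
    simp only [List.length_cons] at hlen
    omega

/-- A minimal element in a right coset. -/
theorem exists_min (J : Set ι) (w : W) :
    ∃ a ∈ par f J, (∀ v ∈ par f J, L (a * w) ≤ L (v * w)) := by
  classical
  have hne : ∃ k, ∃ a ∈ par f J, L (a * w) = k := ⟨_, 1, Subgroup.one_mem _, rfl⟩
  obtain ⟨a, ha, h⟩ := Nat.find_spec hne
  refine ⟨a, ha, fun v hv => ?_⟩
  rw [h]
  exact Nat.find_min' hne ⟨v, hv, rfl⟩

/-- No left descent in `J` implies minimal in the coset. -/
theorem MinL.le (hs : Setup f L) {J : Set ι} {y : W} (hy : MinL f L J y) :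
    ∀ v ∈ par f J, L y ≤ L (v * y) := by
  obtain ⟨a, ha, hmin⟩ := exists_min (f := f) (L := L) J y
  have hzmin : ∀ v ∈ par f J, L (a * y) ≤ L (v * (a * y)) := by
    intro v hv
    have := hmin (v * a) (Subgroup.mul_mem _ hv ha)
    rwa [mul_assoc] at this
  have hy2 : y = a⁻¹ * (a * y) := by group
  generalize a * y = z at hzmin hmin hy2
  subst hy2
  have ha' : a⁻¹ ∈ par f J := Subgroup.inv_mem _ ha
  by_cases ha1 : a⁻¹ = 1
  · intro v hv
    have := hmin v hv
    rw [ha1, one_mul] at this ⊢
    exact this
  · exfalso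
    obtain ⟨i, hi, a', ha'', e, hl⟩ := exists_first hs ha' ha1
    have h1 := Cfsg.Agent.Lib.ChevOrder.Cox.len_add hs hzmin ha'
    have h2 := Cfsg.Agent.Lib.ChevOrder.Cox.len_add hs hzmin ha''
    have h3 : f i * (a⁻¹ * z) = a' * z := by
      rw [e, ← mul_assoc, ← mul_assoc, hs.sq, one_mul]
    have h4 := hy i hi
    rw [h3, h2, h1] at h4
    omega

theorem MinL.len_add (hs : Setup f L) {J : Set ι} {y : W} (hy : MinL f L J y) {v : W}
    (hv : v ∈ par f J) : L (v * y) = L v + L y :=
  Cfsg.Agent.Lib.ChevOrder.Cox.len_add hs (hy.le hs) hv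

theorem MinR.len_add (hs : Setup f L) {J : Set ι} {y : W} (hy : MinR f L J y) {v : W}
    (hv : v ∈ par f J) : L (y * v) = L y + L v := by
  have h1 := ((minR_iff hs).1 hy).len_add hs (Subgroup.inv_mem _ hv)
  have e : v⁻¹ * y⁻¹ = (y * v)⁻¹ := by group
  rw [e, len_inv hs, len_inv hs, len_inv hs] at h1
  omega

/-- Minimal elements of a right coset have no left descent. -/
theorem minL_of_le (hs : Setup f L) {J : Set ι} {y : W} (h : ∀ v ∈ par f J, L y ≤ L (v * y)) :
    MinL f L J y := by
  intro i hi
  have h1 := h _ (f_mem_par hi)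
  have h2 := hs.ne i y
  omega

/-- Every right coset contains an element without left descent. -/
theorem exists_minL (hs : Setup f L) (J : Set ι) (w : W) :
    ∃ a ∈ par f J, MinL f L J (a * w) := by
  obtain ⟨a, ha, hmin⟩ := exists_min (f := f) (L := L) J w
  refine ⟨a, ha, minL_of_le hs fun v hv => ?_⟩
  have := hmin (v * a) (Subgroup.mul_mem _ hv ha)
  rwa [mul_assoc] at this

/-- Every left coset contains an element without right descent. -/
theorem exists_minR (hs : Setup f L) (J : Set ι) (w : W) :
    ∃ a ∈ par f J, MinR f L J (w * a) := by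
  obtain ⟨a, ha, h⟩ := exists_minL hs J w⁻¹
  refine ⟨a⁻¹, Subgroup.inv_mem _ ha, (minR_iff hs).2 ?_⟩
  have e : (w * a⁻¹)⁻¹ = a * w⁻¹ := by group
  rwa [e]

/-- Uniqueness in a right coset. -/
theorem MinL.unique (hs : Setup f L) {J : Set ι} {y y' v : W} (hy : MinL f L J y)
    (hy' : MinL f L J y') (hv : v ∈ par f J) (he : y' = v * y) : v = 1 := by
  have h1 := hy.len_add hs hv
  have h2 := hy'.len_add hs (Subgroup.inv_mem _ hv)
  have e : v⁻¹ * y' = y := by rw [he]; group
  rw [e, len_inv hs] at h2
  rw [← he] at h1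
  exact eq_one_of_len hs (by omega)

/-- Uniqueness in a left coset. -/
theorem MinR.unique (hs : Setup f L) {J : Set ι} {y y' v : W} (hy : MinR f L J y)
    (hy' : MinR f L J y') (hv : v ∈ par f J) (he : y' = y * v) : v = 1 := by
  have h := MinL.unique hs ((minR_iff hs).1 hy) ((minR_iff hs).1 hy') (Subgroup.inv_mem _ hv)
    (by rw [he]; group)
  simpa using h

/-- **Double cosets.** The element of `W_J d W_K` with no left descent in `J`, no right descent in `K` is
unique. -/
theorem dc_unique (hs : Setup f L) {J K : Set ι} :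
    ∀ (n : ℕ) (k l d d' : W), k ∈ par f J → l ∈ par f K → L k = n → MinL f L J d → MinR f L K d →
      MinL f L J d' → MinR f L K d' → d' = k * d * l → d' = d := by
  intro n
  induction n using Nat.strong_induction_on with
  | _ n ih =>
    intro k l d d' hk hl hn hd1 hd2 hd1' hd2' he
    have hk' := Subgroup.inv_mem _ hk
    have hl' := Subgroup.inv_mem _ hl
    have e1 : d * l = k⁻¹ * d' := by rw [he]; group
    have e2 : k * d = d' * l⁻¹ := by rw [he]; group
    have h1 := hd2.len_add hs hl
    have h2 := hd1'.len_add hs hk'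
    have h3 := hd2'.len_add hs hl'
    have h4 := hd1.len_add hs hk
    rw [e1, h2] at h1
    rw [← e2, h4] at h3
    rw [len_inv hs] at h1 h3
    have hkl : L k = L l := by omega
    have hdd : L d = L d' := by omega
    by_cases hk1 : k = 1
    · have hl1 : l = 1 := eq_one_of_len hs (by rw [← hkl, hk1]; exact len_one hs)
      rw [he, hk1, hl1]
      simp
    · obtain ⟨s, hsJ, k', hk'', ek, hlk⟩ := exists_first hs hk hk1
      obtain ⟨r, hr, hrl⟩ := hs.ex d'
      obtain ⟨r', hr'K, hr', hrl'⟩ := exists_reduced_par hs hl'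
      rw [len_inv hs] at hrl'
      have hz : pr f (r ++ r') = k * d := by rw [pr_append, hr, hr', e2]
      have hzl : L (pr f (r ++ r')) = (r ++ r').length := by
        rw [hz, h4, List.length_append, hrl, hrl']
        omega
      have hfz : f s * (k * d) = k' * d := by
        rw [ek, ← mul_assoc, ← mul_assoc, hs.sq, one_mul]
      have hk'len := hd1.len_add hs hk''
      have hzlt : L (f s * pr f (r ++ r')) < (r ++ r').length := by
        rw [hz, hfz, hk'len, List.length_append, hrl, hrl']
        omega
      obtain ⟨l₁, j, l₂, hsplit, hex⟩ := hs.exch s (r ++ r') hzl hzlt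
      have key : ∀ a' : List ι, l₁ = r ++ a' → r' = a' ++ j :: l₂ → d' = d := by
        intro a' h1' h2'
        subst h1' h2'
        have e3 : f s * (k * d) = d' * pr f (a' ++ l₂) := by
          calc f s * (k * d) = (f s * pr f (r ++ a')) * (f j * pr f l₂) := by
                rw [← hz, pr_append f r (a' ++ j :: l₂), pr_append f r a', pr_append f a', pr_cons]
                simp only [mul_assoc]
            _ = pr f (r ++ a') * pr f l₂ := by
                rw [hex, mul_assoc, ← mul_assoc (f j), hs.sq, one_mul]
            _ = d' * pr f (a' ++ l₂) := by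
                rw [pr_append f r a', hr, pr_append f a' l₂, mul_assoc]
        rw [hfz] at e3
        have hmem : pr f (a' ++ l₂) ∈ par f K := by
          refine pr_mem_par fun x hx => hr'K x ?_
          rcases List.mem_append.1 hx with h | h
          · exact List.mem_append_left _ h
          · exact List.mem_append_right _ (List.mem_cons_of_mem _ h)
        refine ih (L k') (by omega) k' (pr f (a' ++ l₂))⁻¹ d d' hk'' (Subgroup.inv_mem _ hmem) rfl
          hd1 hd2 hd1' hd2' ?_
        rw [e3]
        group
      rcases List.append_eq_append_iff.1 hsplit with ⟨a, ha, hb⟩ | ⟨c, hc1, hc2⟩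
      · exact key a ha hb
      · cases c with
        | nil =>
          simp only [List.nil_append] at hc2
          exact key [] (by simpa using hc1.symm) (by simpa using hc2.symm)
        | cons x c' =>
          simp only [List.cons_append, List.cons.injEq] at hc2
          obtain ⟨rfl, rfl⟩ := hc2
          exfalso
          subst hc1
          have hlen := hd1' s hsJ
          have e4 : f s * d' = pr f (l₁ ++ c') := by
            rw [← hr, pr_append, pr_cons, pr_append, ← mul_assoc, hex, mul_assoc, ← mul_assoc (f j),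
              hs.sq, one_mul]
          rw [e4] at hlen
          have h5 := hs.le (l₁ ++ c')
          rw [← hrl] at hlen
          simp only [List.length_append, List.length_cons] at h5 hlen
          omega

/-- Subadditivity of the length. -/
theorem len_mul_le (hs : Setup f L) (a b : W) : L (a * b) ≤ L a + L b := by
  obtain ⟨l, rfl, hl⟩ := hs.ex a
  obtain ⟨l', rfl, hl'⟩ := hs.ex b
  have := hs.le (l ++ l')
  rw [pr_append, List.length_append] at this
  omega

/-- An element with all left descents in `J` has every reduced word of `W_J` as a left factor. -/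
theorem len_sub_word (hs : Setup f L) {J : Set ι} {y : W} (hy : ∀ i ∈ J, L (f i * y) < L y) :
    ∀ l : List ι, (∀ i ∈ l, i ∈ J) → L (pr f l) = l.length →
      L ((pr f l)⁻¹ * y) + l.length = L y := by
  intro l
  induction l with
  | nil =>
    intro _ _
    simp
  | cons s l₂ ih =>
    intro hl hlen
    have hl₂ : ∀ k ∈ l₂, k ∈ J := fun k hk => hl k (by simp [hk])
    have hsJ : s ∈ J := hl s (by simp)
    rw [pr_cons, List.length_cons] at hlen
    have hlen₂ : L (pr f l₂) = l₂.length := by
      have h1 := hs.le l₂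
      have h2 := hs.mul_le s (pr f l₂)
      omega
    have hih := ih hl₂ hlen₂
    obtain ⟨rz, hrz, hrzl⟩ := hs.ex ((pr f l₂)⁻¹ * y)
    have hpr : pr f (l₂ ++ rz) = y := by
      rw [pr_append, hrz]
      group
    have hr1 : L (pr f (l₂ ++ rz)) = (l₂ ++ rz).length := by
      rw [hpr, List.length_append, hrzl]
      omega
    have hr2 : L (f s * pr f (l₂ ++ rz)) < (l₂ ++ rz).length := by
      rw [hpr, List.length_append, hrzl]
      have := hy s hsJ
      omega
    obtain ⟨l₁, j, l₃, hsplit, hex⟩ := hs.exch s (l₂ ++ rz) hr1 hr2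
    have key : ∀ a' : List ι, l₁ = l₂ ++ a' → rz = a' ++ j :: l₃ →
        L ((pr f (s :: l₂))⁻¹ * y) + (s :: l₂).length = L y := by
      intro a' h1' h2'
      subst h1' h2'
      have e3 : f s * y = pr f l₂ * pr f (a' ++ l₃) := by
        calc f s * y = (f s * pr f (l₂ ++ a')) * (f j * pr f l₃) := by
              rw [← hpr, pr_append f l₂ (a' ++ j :: l₃), pr_append f l₂ a', pr_append f a', pr_cons]
              simp only [mul_assoc]
          _ = pr f (l₂ ++ a') * pr f l₃ := by
              rw [hex, mul_assoc, ← mul_assoc (f j), hs.sq, one_mul]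
          _ = pr f l₂ * pr f (a' ++ l₃) := by
              rw [pr_append f l₂ a', pr_append f a' l₃, mul_assoc]
      have e4 : (pr f (s :: l₂))⁻¹ * y = pr f (a' ++ l₃) := by
        rw [pr_cons, mul_inv_rev, inv_f hs, mul_assoc, e3]
        group
      rw [e4]
      have h5 := hs.le (a' ++ l₃)
      have h6 : y = pr f (s :: l₂) * pr f (a' ++ l₃) := by
        rw [← e4]
        group
      have h7 := len_mul_le hs (pr f (s :: l₂)) (pr f (a' ++ l₃))
      rw [← h6] at h7
      rw [pr_cons, hlen] at h7
      rw [← hrzl] at hih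
      simp only [List.length_append, List.length_cons] at h5 hih ⊢
      omega
    rcases List.append_eq_append_iff.1 hsplit with ⟨a, ha, hb⟩ | ⟨c, hc1, hc2⟩
    · exact key a ha hb
    · cases c with
      | nil =>
        simp only [List.nil_append] at hc2
        exact key [] (by simpa using hc1.symm) (by simpa using hc2.symm)
      | cons x c' =>
        simp only [List.cons_append, List.cons.injEq] at hc2
        obtain ⟨rfl, rfl⟩ := hc2
        exfalso
        subst hc1
        have e4 : f s * pr f (l₁ ++ j :: c') = pr f (l₁ ++ c') := by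
          rw [pr_append, pr_cons, pr_append, ← mul_assoc, hex, mul_assoc, ← mul_assoc (f j),
            hs.sq, one_mul]
        rw [e4] at hlen
        have h5 := hs.le (l₁ ++ c')
        simp only [List.length_append, List.length_cons] at h5 hlen
        omega

theorem len_sub (hs : Setup f L) {J : Set ι} {y : W} (hy : ∀ i ∈ J, L (f i * y) < L y) {x : W}
    (hx : x ∈ par f J) : L (x⁻¹ * y) + L x = L y := by
  obtain ⟨l, hl, rfl, hlen⟩ := exists_reduced_par hs hx
  rw [← hlen]
  exact len_sub_word hs hy l hl hlen.symm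

/-- The top element of `W_J` is unique. -/
theorem top_unique (hs : Setup f L) {J : Set ι} {y y' : W} (hy : y ∈ par f J) (hy' : y' ∈ par f J)
    (h : ∀ i ∈ J, L (f i * y) < L y) (h' : ∀ i ∈ J, L (f i * y') < L y') : y = y' := by
  have h1 := len_sub hs h hy'
  have h2 := len_sub hs h' hy
  have h3 : y'⁻¹ * y = 1 := eq_one_of_len hs (by
    have e : (y⁻¹ * y')⁻¹ = y'⁻¹ * y := by group
    have := len_inv hs (y⁻¹ * y')
    rw [e] at this
    omega)
  calc y = y' * (y'⁻¹ * y) := by group
    _ = y' := by rw [h3, mul_one]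

theorem top_unique_right (hs : Setup f L) {J : Set ι} {y y' : W} (hy : y ∈ par f J)
    (hy' : y' ∈ par f J) (h : ∀ i ∈ J, L (y * f i) < L y) (h' : ∀ i ∈ J, L (y' * f i) < L y') :
    y = y' := by
  have key : ∀ z : W, (∀ i ∈ J, L (z * f i) < L z) → ∀ i ∈ J, L (f i * z⁻¹) < L z⁻¹ := by
    intro z hz i hi
    have e : f i * z⁻¹ = (z * f i)⁻¹ := by rw [mul_inv_rev, inv_f hs]
    rw [e, len_inv hs, len_inv hs]
    exact hz i hi
  have := top_unique hs (Subgroup.inv_mem _ hy) (Subgroup.inv_mem _ hy') (key y h) (key y' h')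
  exact inv_injective this

theorem ne_right (hs : Setup f L) (i : ι) (w : W) : L (w * f i) ≠ L w := by
  have e : f i * w⁻¹ = (w * f i)⁻¹ := by rw [mul_inv_rev, inv_f hs]
  have h := hs.ne i w⁻¹
  rw [e, len_inv hs, len_inv hs] at h
  exact h

/-- The top element of `W_J`. -/
theorem exists_top (hs : Setup f L) [Finite W] (J : Set ι) :
    ∃ y ∈ par f J, (∀ i ∈ J, L (f i * y) < L y) ∧ (∀ i ∈ J, L (y * f i) < L y) := by
  obtain ⟨⟨y, hy⟩, hmax⟩ := Finite.exists_max (fun y : par f J => L y)
  refine ⟨y, hy, fun i hi => ?_, fun i hi => ?_⟩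
  · have h1 := hmax ⟨f i * y, Subgroup.mul_mem _ (f_mem_par hi) hy⟩
    have h2 := hs.ne i y
    simp only at h1
    omega
  · have h1 := hmax ⟨y * f i, Subgroup.mul_mem _ hy (f_mem_par hi)⟩
    have h2 := ne_right hs i y
    simp only at h1
    omega

end Cfsg.Agent.Lib.StChar.Cox
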