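import Cfsg.Agent.Lib.ChevOrder.BNCount
import Cfsg.Agent.Lib.StChar.Cox

/-!
# The Bruhat cell of an element in a group with a (B,N)-pair

`cell P g` is the element `w` of the Weyl group with `g ∈ B w B`.
-/

set_option autoImplicit false

namespace Cfsg.Agent.Lib.StChar.Gate

open Cfsg.Agent.Lib.BNPair.Basic Cfsg.Agent.Lib.BNPair.Parabolic Cfsg.Agent.Lib.ChevOrder.BNCount
open Cfsg.Agent.Lib.BNPair.CoxeterExchange Cfsg.Agent.Lib.ChevOrder.Cox Cfsg.Agent.Lib.StChar.Cox

variable {G : Type*} [Group G] (P : Cfsg.BNPair G)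

/-- The cell of an element. -/
noncomputable def cell (g : G) : WW P :=
  QuotientGroup.mk (⟨(bruhat_exists (P := P) g).choose, (bruhat_exists (P := P) g).choose_spec.1⟩ : P.N)

variable {P}

/-- The main property of cells. -/
theorem cell_eq_iff {g : G} (n : P.N) : cell P g = QuotientGroup.mk n ↔ g ∈ C P (n : G) := by
  have h0 := (bruhat_exists (P := P) g).choose_spec
  constructor
  · intro h
    have h1 := (mk_eq _ _).1 h
    have h2 := C_eq_of_inv_mul_mem h1
    rw [← h2]
    exact h0.2
  · intro h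
    have h2 := C_eq_of_mem_both h0.2 h
    have h3 := (C_eq_iff h0.1 n.2).1 h2
    exact (mk_eq _ _).2 h3

theorem mem_C_cell {g : G} (n : P.N) (h : cell P g = QuotientGroup.mk n) : g ∈ C P (n : G) :=
  (cell_eq_iff n).1 h

theorem cell_of_mem {g : G} {n : P.N} (h : g ∈ C P (n : G)) : cell P g = QuotientGroup.mk n :=
  (cell_eq_iff n).2 h

theorem cell_coe (n : P.N) : cell P (n : G) = QuotientGroup.mk n := cell_of_mem (self_mem_C _)

theorem exists_rep (g : G) : ∃ n : P.N, cell P g = QuotientGroup.mk n ∧ g ∈ C P (n : G) := by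
  obtain ⟨n, hn⟩ := QuotientGroup.mk_surjective (cell P g)
  exact ⟨n, hn.symm, mem_C_cell n hn.symm⟩

theorem cell_mul_left {g b : G} (hb : b ∈ P.B) : cell P (b * g) = cell P g := by
  obtain ⟨n, hn, hg⟩ := exists_rep (P := P) g
  rw [hn]
  exact cell_of_mem (C_mul_left hg hb)

theorem cell_mul_right {g b : G} (hb : b ∈ P.B) : cell P (g * b) = cell P g := by
  obtain ⟨n, hn, hg⟩ := exists_rep (P := P) g
  rw [hn]
  exact cell_of_mem (C_mul_right hg hb)

theorem cell_one : cell P (1 : G) = 1 := cell_coe (1 : P.N)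

theorem cell_eq_one_iff {g : G} : cell P g = 1 ↔ g ∈ P.B := by
  constructor
  · intro h
    have h1 := mem_C_cell (P := P) (g := g) (1 : P.N) h
    exact C_one_eq_of_mem P.B.one_mem h1
  · intro h
    have := cell_mul_left (P := P) (g := 1) h
    rwa [mul_one, cell_one] at this

theorem cell_inv (g : G) : cell P g⁻¹ = (cell P g)⁻¹ := by
  obtain ⟨n, hn, hg⟩ := exists_rep (P := P) g
  rw [hn]
  have h1 := inv_mem_C hg
  exact cell_of_mem (n := n⁻¹) h1

variable {ι : Type*} {e : ι → G} {he : ∀ i, e i ∈ P.S}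

theorem ff_eq (i : ι) : ff (P := P) e he i = QuotientGroup.mk (⟨e i, P.subset (he i)⟩ : P.N) := rfl

theorem cell_e (i : ι) : cell P (e i) = ff e he i := cell_coe (⟨e i, P.subset (he i)⟩ : P.N)

/-- Left multiplication by a generator. -/
theorem cell_e_mul (i : ι) (g : G) :
    cell P (e i * g) = ff e he i * cell P g ∨ cell P (e i * g) = cell P g := by
  obtain ⟨n, hn, hg⟩ := exists_rep (P := P) g
  rw [hn]
  rcases s_mul_mem (he i) n.2 hg with h | h
  · left
    exact cell_of_mem (n := ⟨e i, P.subset (he i)⟩ * n) h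
  · right
    exact cell_of_mem h

/-- Left multiplication by the inverse of a generator. -/
theorem cell_e_inv_mul (i : ι) (g : G) :
    cell P ((e i)⁻¹ * g) = ff e he i * cell P g ∨ cell P ((e i)⁻¹ * g) = cell P g := by
  have h1 : (e i)⁻¹ = (e i * e i)⁻¹ * e i := by group
  rw [h1, mul_assoc, cell_mul_left (inv_sq_mem_B (he i))]
  exact cell_e_mul i g

/-- Left multiplication by a generator, when the length grows. -/
theorem cell_e_mul_of_lt (i : ι) (g h : G) {n : P.N} (hh : h ∈ C P (e i))
    (hn : g ∈ C P (n : G)) (hlt : LL P (ff e he i * QuotientGroup.mk n) > LL P (QuotientGroup.mk n)) :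
    cell P (h * g) = ff e he i * QuotientGroup.mk n := by
  have e0 : ff e he i * (QuotientGroup.mk n : WW P) = QuotientGroup.mk (⟨e i, P.subset (he i)⟩ * n) := rfl
  rw [e0, LL_mk, LL_mk] at hlt
  rw [e0]
  exact cell_of_mem (mul_mem_C_mul (he i) n.2 hlt.le hh hn)

/-- Cells multiply when lengths add. -/
theorem cell_mul_of_add (hs : Setup (ff e he) (LL P)) : ∀ (k : ℕ) (g h : G), LL P (cell P g) = k →
    LL P (cell P g * cell P h) = LL P (cell P g) + LL P (cell P h) →
    cell P (g * h) = cell P g * cell P h := by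
  intro k
  induction k with
  | zero =>
    intro g h h0 _
    have h1 := eq_one_of_len hs h0
    have h2 := cell_eq_one_iff.1 h1
    rw [cell_mul_left h2, h1, one_mul]
  | succ k ih =>
    intro g h hk hadd
    obtain ⟨l, hl, hlen⟩ := hs.ex (cell P g)
    cases l with
    | nil =>
      simp only [List.length_nil] at hlen
      omega
    | cons i l' =>
      rw [pr_cons] at hl
      obtain ⟨n', hn'⟩ := QuotientGroup.mk_surjective (pr (ff e he) l')
      have hn₀ : cell P g = QuotientGroup.mk (⟨e i, P.subset (he i)⟩ * n') := by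
        rw [← hl, ← hn']
        rfl
      have hg := mem_C_cell _ hn₀
      obtain ⟨b, hb, b', hb', hgb⟩ := mem_C.1 hg
      let g' : G := (n' : G) * b'
      have hg' : cell P g' = pr (ff e he) l' := by
        rw [← hn']
        exact cell_of_mem (C_mul_right (self_mem_C _) hb')
      have hgg : g = (b * e i) * g' := by
        rw [hgb]
        simp only [g', Subgroup.coe_mul]
        group
      have hL' : LL P (pr (ff e he) l') = k := by
        have h1 := hs.le l'
        have h2 := hs.mul_le i (pr (ff e he) l')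
        rw [hl] at h2
        simp only [List.length_cons] at hlen
        omega
      have hw : cell P g = ff e he i * cell P g' := by rw [hg', hl]
      have hmul : g * h = (b * e i) * (g' * h) := by rw [hgg, mul_assoc]
      have hadd' : LL P (cell P g' * cell P h) = LL P (cell P g') + LL P (cell P h) := by
        have h1 : LL P (cell P g * cell P h) ≤ LL P (cell P g' * cell P h) + 1 := by
          rw [hw, mul_assoc]
          exact hs.mul_le _ _
        have h2 := len_mul_le hs (cell P g') (cell P h)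
        rw [hg', hL'] at h2 ⊢
        rw [hadd, hk] at h1
        rw [hg'] at h1
        omega
      have hih := ih g' h (by rw [hg', hL']) hadd'
      have hlt : LL P (ff e he i * cell P (g' * h)) > LL P (cell P (g' * h)) := by
        rw [hih, ← mul_assoc, ← hw, hadd, hadd', hk, hg', hL']
        omega
      obtain ⟨m, hm, hgm⟩ := exists_rep (P := P) (g' * h)
      rw [hm] at hlt
      have e1 : cell P g * cell P h = ff e he i * (cell P g' * cell P h) := by rw [hw, mul_assoc]
      rw [e1, ← hih, hm, hmul]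
      refine cell_e_mul_of_lt i _ _ ?_ hgm hlt
      exact C_mul_left (self_mem_C _) hb

/-- Membership in parabolic subgroups in terms of cells. -/
theorem mem_parabolic_iff_cell (hs : Setup (ff e he) (LL P)) (K : Set ι) (g : G) :
    g ∈ P.parabolic (e '' K) ↔ cell P g ∈ par (ff e he) K := by
  have hK : e '' K ⊆ P.S := by
    rintro _ ⟨i, _, rfl⟩
    exact he i
  have hpar : ∀ n : P.N, (QuotientGroup.mk n : WW P) ∈ par (ff e he) K → (n : G) ∈ P.parabolic (e '' K) := by
    intro n hn
    obtain ⟨l, hl, hpr⟩ := Cfsg.Agent.Lib.ChevOrder.Cox.exists_word hs hn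
    have h1 : ∀ l : List ι, (∀ i ∈ l, i ∈ K) → ∃ m : P.N, (QuotientGroup.mk m : WW P) = pr (ff e he) l ∧
        (m : G) ∈ P.parabolic (e '' K) := by
      intro l
      induction l with
      | nil => exact fun _ => ⟨1, rfl, Subgroup.one_mem _⟩
      | cons i l ih =>
        intro hl
        obtain ⟨m, hm, hm'⟩ := ih fun j hj => hl j (by simp [hj])
        refine ⟨⟨e i, P.subset (he i)⟩ * m, ?_, ?_⟩
        · rw [pr_cons, ← hm]
          rfl
        · refine Subgroup.mul_mem _ ?_ hm'
          exact closure_le_parabolic _ (Subgroup.subset_closure ⟨i, hl i (by simp), rfl⟩)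
    obtain ⟨m, hm, hm'⟩ := h1 l hl
    have h2 : (m : G)⁻¹ * (n : G) ∈ P.B := by
      rw [← mk_eq, hm, hpr]
    have h3 := B_le_parabolic (P := P) (e '' K) h2
    have h4 : (n : G) = (m : G) * ((m : G)⁻¹ * (n : G)) := by group
    rw [h4]
    exact Subgroup.mul_mem _ hm' h3
  constructor
  · intro hg
    obtain ⟨n, hn, hgn⟩ := (mem_parabolic_iff hK g).1 hg
    have hnN : n ∈ P.N := closure_le_N hK hn
    rw [cell_of_mem (n := ⟨n, hnN⟩) hgn]
    have h1 : ∀ x ∈ Subgroup.closure (e '' K), ∀ hx : x ∈ P.N,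
        (QuotientGroup.mk (⟨x, hx⟩ : P.N) : WW P) ∈ par (ff e he) K := by
      intro x hx
      induction hx using Subgroup.closure_induction with
      | mem y hy =>
        obtain ⟨i, hi, rfl⟩ := hy
        exact fun _ => f_mem_par hi
      | one => exact fun _ => Subgroup.one_mem _
      | mul a b ha hb iha ihb =>
        intro hab
        exact Subgroup.mul_mem _ (iha (closure_le_N hK ha)) (ihb (closure_le_N hK hb))
      | inv a ha iha =>
        intro hab
        exact Subgroup.inv_mem _ (iha (closure_le_N hK ha))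
    exact h1 n hn hnN
  · intro hg
    obtain ⟨n, hn, hgn⟩ := exists_rep (P := P) g
    rw [hn] at hg
    exact mem_parabolic_of_C (hpar n hg) hgn

/-! ### The gate -/

section GateMap

variable (hs : Setup (ff e he) (LL P))
include hs

/-- Every coset `x P_K` contains an element with no right descent in `K`. -/
theorem gate_exists (K : Set ι) (x : G) :
    ∃ p ∈ P.parabolic (e '' K), MinR (ff e he) (LL P) K (cell P (x * p)) := by
  obtain ⟨a, ha, hmin⟩ := exists_minR hs K (cell P x)
  obtain ⟨n, hn, hxn⟩ := exists_rep (P := P) x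
  obtain ⟨m, rfl⟩ := QuotientGroup.mk_surjective a
  obtain ⟨b, hb, b', hb', hx⟩ := mem_C.1 hxn
  have hm : (m : G) ∈ P.parabolic (e '' K) := by
    rw [mem_parabolic_iff_cell (he := he) hs, cell_coe]
    exact ha
  refine ⟨b'⁻¹ * (m : G), Subgroup.mul_mem _ (B_le_parabolic _ (P.B.inv_mem hb')) hm, ?_⟩
  have e1 : x * (b'⁻¹ * (m : G)) = b * ((n * m : P.N) : G) := by
    rw [hx]
    simp only [Subgroup.coe_mul]
    group
  rw [e1, cell_mul_left hb, cell_coe]
  rw [hn] at hmin
  exact hmin

/-- The element with no right descent in a coset `x P_K` is unique up to `B`. -/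
theorem gate_unique {K : Set ι} {x p : G} (hp : p ∈ P.parabolic (e '' K))
    (h1 : MinR (ff e he) (LL P) K (cell P x)) (h2 : MinR (ff e he) (LL P) K (cell P (x * p))) :
    p ∈ P.B := by
  have hv : cell P p ∈ par (ff e he) K := (mem_parabolic_iff_cell (he := he) hs K p).1 hp
  have h3 := h1.len_add hs hv
  have h4 := cell_mul_of_add hs _ x p rfl h3
  rw [h4] at h2
  exact cell_eq_one_iff.1 (MinR.unique hs h1 h2 hv rfl)

end GateMap

/-! ### Fixed cosets -/

section Fixed

open scoped Classical

variable (hs : Setup (ff e he) (LL P))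

/-- The cell of a coset. -/
noncomputable def cellQ (P : Cfsg.BNPair G) (c : G ⧸ P.B) : WW P := cell P (Quotient.out c)

theorem cellQ_mk (x : G) : cellQ P (QuotientGroup.mk x) = cell P x := by
  have h1 : (Quotient.out (QuotientGroup.mk x : G ⧸ P.B))⁻¹ * x ∈ P.B :=
    QuotientGroup.eq.1 (QuotientGroup.out_eq' _)
  have h2 := cell_mul_right (P := P) (g := Quotient.out (QuotientGroup.mk x : G ⧸ P.B)) h1
  rw [cellQ, ← h2]
  congr 1
  group

/-- Cosets of `A` contained in `Q`. -/
def InSub {A : Subgroup G} (Q : Subgroup G) (c : G ⧸ A) : Prop :=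
  ∃ x ∈ Q, c = QuotientGroup.mk x

theorem smul_mk {A : Subgroup G} (y x : G) :
    y • (QuotientGroup.mk x : G ⧸ A) = QuotientGroup.mk (y * x) := rfl

/-- The number of fixed points of `y` on the cosets of `A` in `Q`. -/
noncomputable def fixIn (Q A : Subgroup G) (y : G) : ℕ :=
  Nat.card {c : G ⧸ A // InSub Q c ∧ y • c = c}

variable [Finite G]

include hs

/-- **The gate bijection.** -/
theorem fixIn_eq {J K : Set ι} (hKJ : K ⊆ J) {y : G} (hy : y ∈ P.B) :
    fixIn (P.parabolic (e '' J)) (P.parabolic (e '' K)) y =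
      Nat.card {C : G ⧸ P.B // InSub (P.parabolic (e '' J)) C ∧ y • C = C ∧
        MinR (ff e he) (LL P) K (cellQ P C)} := by
  classical
  set PK := P.parabolic (e '' K) with hPK
  set PJ := P.parabolic (e '' J) with hPJ
  have hBK : P.B ≤ PK := B_le_parabolic _
  have hKJ' : PK ≤ PJ := parabolic_mono (Set.image_mono hKJ)
  have hπ : ∀ x : G, (QuotientGroup.mk (Quotient.out (QuotientGroup.mk x : G ⧸ P.B)) : G ⧸ PK) =
      QuotientGroup.mk x := by
    intro x
    have h1 : (Quotient.out (QuotientGroup.mk x : G ⧸ P.B))⁻¹ * x ∈ P.B :=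
      QuotientGroup.eq.1 (QuotientGroup.out_eq' _)
    exact QuotientGroup.eq.2 (hBK h1)
  let π : G ⧸ P.B → G ⧸ PK := fun C => QuotientGroup.mk (Quotient.out C)
  have hπmk : ∀ x : G, π (QuotientGroup.mk x) = QuotientGroup.mk x := hπ
  have hπinj : ∀ x x' : G, MinR (ff e he) (LL P) K (cell P x) → MinR (ff e he) (LL P) K (cell P x') →
      (QuotientGroup.mk x : G ⧸ PK) = QuotientGroup.mk x' →
      (QuotientGroup.mk x : G ⧸ P.B) = QuotientGroup.mk x' := by
    intro x x' h1 h2 he'
    have hp := QuotientGroup.eq.1 he'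
    have h3 : x * (x⁻¹ * x') = x' := by group
    have h4 := gate_unique hs hp h1 (by rw [h3]; exact h2)
    exact QuotientGroup.eq.2 h4
  symm
  refine Nat.card_congr (Equiv.ofBijective (fun C => ⟨π C.1, ?_, ?_⟩) ⟨?_, ?_⟩)
  · obtain ⟨x, hx, hC⟩ := C.2.1
    exact ⟨x, hx, by rw [hC, hπmk]⟩
  · obtain ⟨x, hx, hC⟩ := C.2.1
    have h2 := C.2.2.1
    rw [hC, smul_mk, QuotientGroup.eq] at h2
    rw [hC, hπmk, smul_mk, QuotientGroup.eq]
    exact hBK h2
  · intro a a' haa
    have h1 : π a.1 = π a'.1 := congrArg Subtype.val haa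
    obtain ⟨x, -, hx⟩ := a.2.1
    obtain ⟨x', -, hx'⟩ := a'.2.1
    have hC3 := a.2.2.2
    have hC3' := a'.2.2.2
    rw [hx, cellQ_mk] at hC3
    rw [hx', cellQ_mk] at hC3'
    rw [hx, hx', hπmk, hπmk] at h1
    apply Subtype.ext
    rw [hx, hx']
    exact hπinj x x' hC3 hC3' h1
  · rintro ⟨c, ⟨x, hx, rfl⟩, hfix⟩
    obtain ⟨p, hp, hmin⟩ := gate_exists hs K x
    have hc : (QuotientGroup.mk (x * p) : G ⧸ PK) = QuotientGroup.mk x := by
      refine QuotientGroup.eq.2 ?_
      have e1 : (x * p)⁻¹ * x = p⁻¹ := by group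
      rw [e1]
      exact PK.inv_mem hp
    refine ⟨⟨QuotientGroup.mk (x * p), ⟨x * p, PJ.mul_mem hx (hKJ' hp), rfl⟩, ?_, ?_⟩, ?_⟩
    · have h1 : MinR (ff e he) (LL P) K (cell P (y * (x * p))) := by
        rw [cell_mul_left hy]
        exact hmin
      rw [smul_mk]
      refine hπinj _ _ h1 hmin ?_
      rw [← smul_mk, hc, hfix]
    · rw [cellQ_mk]
      exact hmin
    · exact Subtype.ext (by
        show π (QuotientGroup.mk (x * p)) = _
        rw [hπmk, hc])

/-- **Alternating sum over the subsets of `J`.** -/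
theorem sum_fixIn [DecidableEq ι] (J : Finset ι) {y : G} (hy : y ∈ P.B) :
    ∑ K ∈ J.powerset, (-1 : ℤ) ^ K.card *
        (fixIn (P.parabolic (e '' (J : Set ι))) (P.parabolic (e '' (K : Set ι))) y : ℤ) =
      Nat.card {C : G ⧸ P.B // InSub (P.parabolic (e '' (J : Set ι))) C ∧ y • C = C ∧
        ∀ i ∈ J, ¬ LL P (cellQ P C) < LL P (cellQ P C * ff e he i)} := by
  classical
  let _ : Fintype (G ⧸ P.B) := Fintype.ofFinite _
  let Z : Finset (G ⧸ P.B) := Finset.univ.filter fun C =>
    InSub (P.parabolic (e '' (J : Set ι))) C ∧ y • C = C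
  let A : G ⧸ P.B → Finset ι := fun C => J.filter fun i => LL P (cellQ P C) < LL P (cellQ P C * ff e he i)
  have h1 : ∀ K ∈ J.powerset,
      (fixIn (P.parabolic (e '' (J : Set ι))) (P.parabolic (e '' (K : Set ι))) y : ℤ) =
        ∑ C ∈ Z, if K ⊆ A C then 1 else 0 := by
    intro K hK
    have hKJ : K ⊆ J := Finset.mem_powerset.1 hK
    rw [fixIn_eq hs (Finset.coe_subset.2 hKJ) hy, ← Finset.sum_filter, Finset.sum_const,
      Nat.smul_one_eq_cast, Nat.card_eq_fintype_card, Fintype.card_subtype]
    congr 2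
    ext C
    simp only [Finset.mem_filter, Finset.mem_univ, true_and, Z, A]
    constructor
    · rintro ⟨h1, h2, h3⟩
      refine ⟨⟨h1, h2⟩, fun i hi => Finset.mem_filter.2 ⟨hKJ hi, h3 i hi⟩⟩
    · rintro ⟨⟨h1, h2⟩, h3⟩
      exact ⟨h1, h2, fun i hi => (Finset.mem_filter.1 (h3 hi)).2⟩
  rw [Finset.sum_congr rfl fun K hK => by rw [h1 K hK]]
  simp only [Finset.mul_sum]
  rw [Finset.sum_comm]
  have h2 : ∀ C ∈ Z, ∑ K ∈ J.powerset, (-1 : ℤ) ^ K.card * (if K ⊆ A C then 1 else 0) =
      if A C = ∅ then 1 else 0 := by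
    intro C _
    rw [← Finset.sum_powerset_neg_one_pow_card]
    have h3 : (A C).powerset = J.powerset.filter fun K => K ⊆ A C := by
      ext K
      simp only [Finset.mem_powerset, Finset.mem_filter]
      constructor
      · intro h
        exact ⟨fun i hi => (Finset.mem_filter.1 (h hi)).1, h⟩
      · intro h
        exact h.2
    rw [h3, Finset.sum_filter]
    refine Finset.sum_congr rfl fun K _ => ?_
    split_ifs <;> simp
  rw [Finset.sum_congr rfl h2, ← Finset.sum_filter, Finset.sum_const, Nat.smul_one_eq_cast,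
    Nat.card_eq_fintype_card, Fintype.card_subtype]
  congr 2
  ext C
  simp only [Finset.mem_filter, Finset.mem_univ, true_and, Z, A, Finset.filter_eq_empty_iff]
  tauto

/-- The alternating sum in terms of the top cell of `W_J`. -/
theorem sum_fixIn_top [DecidableEq ι] (J : Finset ι) {y : G} (hy : y ∈ P.B) {w : WW P}
    (hw : w ∈ par (ff e he) (J : Set ι))
    (htop : ∀ i ∈ (J : Set ι), LL P (w * ff e he i) < LL P w) :
    ∑ K ∈ J.powerset, (-1 : ℤ) ^ K.card *
        (fixIn (P.parabolic (e '' (J : Set ι))) (P.parabolic (e '' (K : Set ι))) y : ℤ) =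
      Nat.card {C : G ⧸ P.B // cellQ P C = w ∧ y • C = C} := by
  rw [sum_fixIn hs J hy]
  congr 1
  refine Nat.card_congr (Equiv.subtypeEquivRight fun C => ?_)
  constructor
  · rintro ⟨⟨x, hx, rfl⟩, h2, h3⟩
    refine ⟨?_, h2⟩
    rw [cellQ_mk] at h3 ⊢
    refine top_unique_right hs ((mem_parabolic_iff_cell hs _ x).1 hx) hw (fun i hi => ?_) htop
    have h4 := h3 i hi
    have h5 := ne_right hs i (cell P x)
    omega
  · rintro ⟨h1, h2⟩
    refine ⟨?_, h2, ?_⟩
    · refine ⟨Quotient.out C, ?_, (QuotientGroup.out_eq' C).symm⟩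
      rw [mem_parabolic_iff_cell hs]
      have : cell P (Quotient.out C) = w := h1
      rw [this]
      exact hw
    · intro i hi
      rw [h1]
      have := htop i hi
      omega

end Fixed

end Cfsg.Agent.Lib.StChar.Gate
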