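import Cfsg.Agent.Lib.StChar.Chev
import Cfsg.Agent.Lib.ChevOrder.Level
import Cfsg.Agent.Lib.ChevOrder.SylowU
import Cfsg.Agent.Lib.Char.PRegular

/-!
# The longest element of a parabolic Weyl group, acting on the roots

For a subset `K` of the fundamental roots and a representative `n` of the top element of `W_K`, the
intersection of `B` and `n B n⁻¹` is `U_K H`.  The cell `B n B / B` is then `B / U_K H` as a `B`-set.
-/

set_option autoImplicit false
set_option linter.unusedSectionVars false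

namespace Cfsg.Agent.Lib.StChar.Top

open Cfsg Cfsg.Lie Cfsg.Agent.Lib.ChevBN.Elem Cfsg.Agent.Lib.ChevBN.Entries Cfsg.Agent.Lib.ChevBN.Table
open Cfsg.Agent.Lib.ChevBN.Collect Cfsg.Agent.Lib.ChevBN.Rel Cfsg.Agent.Lib.ChevBN.Torus
open Cfsg.Agent.Lib.ChevBN.Monomial Cfsg.Agent.Lib.ChevBN.Core Cfsg.Agent.Lib.ChevBN.Pair
open Cfsg.Agent.Lib.ChevBN.Stmts
open Cfsg.Agent.Lib.ChevTri.Level Cfsg.Agent.Lib.ChevTri.Datum
open Cfsg.Agent.Lib.BNPair.Basic Cfsg.Agent.Lib.BNPair.Parabolic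
open Cfsg.Agent.Lib.ChevOrder.BNCount Cfsg.Agent.Lib.ChevOrder.Chev
open Cfsg.Agent.Lib.ChevOrder.Cox Cfsg.Agent.Lib.ChevOrder.Level
open Cfsg.Agent.Lib.StChar.Cox Cfsg.Agent.Lib.StChar.Gate Cfsg.Agent.Lib.StChar.Inner
open Cfsg.Agent.Lib.StChar.Chev
open Cfsg.Agent.Lib.ChevBN.Levi
open Cfsg.Agent.Lib.BNPair.CoxeterExchange

/-! ### The cell of `n` as a `B`-set -/

section Abstract

variable {G : Type*} [Group G] {P : Cfsg.BNPair G}

/-- The map from `B / T` to the cell of `n`. -/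
noncomputable def cellMap (P : Cfsg.BNPair G) (n : P.N) (T : Subgroup G) (c : ↥P.B ⧸ T.subgroupOf P.B) : G ⧸ P.B :=
  QuotientGroup.mk (((Quotient.out c : ↥P.B) : G) * (n : G))

theorem cellMap_mk {n : P.N} {T : Subgroup G} (hT : ∀ x, x ∈ T ↔ x ∈ P.B ∧ (n : G)⁻¹ * x * n ∈ P.B)
    (b : ↥P.B) : cellMap P n T (QuotientGroup.mk b) = QuotientGroup.mk ((b : G) * (n : G)) := by
  rw [cellMap, QuotientGroup.eq]
  have h1 : (Quotient.out (QuotientGroup.mk b : ↥P.B ⧸ T.subgroupOf P.B))⁻¹ * b ∈ T.subgroupOf P.B :=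
    QuotientGroup.eq.1 (QuotientGroup.out_eq' _)
  have h2 := ((hT _).1 (Subgroup.mem_subgroupOf.1 h1)).2
  have e : (((Quotient.out (QuotientGroup.mk b : ↥P.B ⧸ T.subgroupOf P.B) : ↥P.B) : G) * (n : G))⁻¹ *
      ((b : G) * (n : G)) =
      (n : G)⁻¹ * (((Quotient.out (QuotientGroup.mk b : ↥P.B ⧸ T.subgroupOf P.B))⁻¹ * b : ↥P.B) : G) * n := by
    simp only [Subgroup.coe_mul, Subgroup.coe_inv]
    group
  rw [e]
  exact h2

theorem card_fix_cell (n : P.N) {T : Subgroup G} (hT : ∀ x, x ∈ T ↔ x ∈ P.B ∧ (n : G)⁻¹ * x * n ∈ P.B)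
    (y : ↥P.B) :
    Nat.card {C : G ⧸ P.B // cellQ P C = QuotientGroup.mk n ∧ (y : G) • C = C} =
      Nat.card (MulAction.fixedBy (↥P.B ⧸ T.subgroupOf P.B) y) := by
  classical
  have hsmul : ∀ c : ↥P.B ⧸ T.subgroupOf P.B, cellMap P n T (y • c) = (y : G) • cellMap P n T c := by
    intro c
    obtain ⟨b, rfl⟩ := QuotientGroup.mk_surjective c
    rw [show y • (QuotientGroup.mk b : ↥P.B ⧸ T.subgroupOf P.B) = QuotientGroup.mk (y * b) from rfl,
      cellMap_mk hT, cellMap_mk hT, smul_mk]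
    simp only [Subgroup.coe_mul, mul_assoc]
  have hinj : Function.Injective (cellMap P n T) := by
    intro c c' he
    obtain ⟨b, rfl⟩ := QuotientGroup.mk_surjective c
    obtain ⟨b', rfl⟩ := QuotientGroup.mk_surjective c'
    rw [cellMap_mk hT, cellMap_mk hT, QuotientGroup.eq] at he
    rw [QuotientGroup.eq, Subgroup.mem_subgroupOf, hT]
    refine ⟨(b⁻¹ * b').2, ?_⟩
    have e : (n : G)⁻¹ * ((b⁻¹ * b' : ↥P.B) : G) * n = ((b : G) * n)⁻¹ * ((b' : G) * n) := by
      simp only [Subgroup.coe_mul, Subgroup.coe_inv]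
      group
    rw [e]
    exact he
  have hcell : ∀ c, cellQ P (cellMap P n T c) = QuotientGroup.mk n := by
    intro c
    obtain ⟨b, rfl⟩ := QuotientGroup.mk_surjective c
    rw [cellMap_mk hT, cellQ_mk, cell_eq_iff]
    exact mem_C.2 ⟨b, b.2, 1, P.B.one_mem, by simp⟩
  let Φ : MulAction.fixedBy (↥P.B ⧸ T.subgroupOf P.B) y →
      {C : G ⧸ P.B // cellQ P C = QuotientGroup.mk n ∧ (y : G) • C = C} := fun c =>
    ⟨cellMap P n T c, hcell c, by rw [← hsmul]; exact congrArg _ c.2⟩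
  have hΦ : Function.Bijective Φ := by
    constructor
    · intro c c' he
      exact Subtype.ext (hinj (congrArg (fun z => z.1) he))
    · rintro ⟨C, hC, hf⟩
      obtain ⟨x, rfl⟩ := QuotientGroup.mk_surjective C
      rw [cellQ_mk, cell_eq_iff] at hC
      obtain ⟨b, hb, b', hb', rfl⟩ := mem_C.1 hC
      have hg : cellMap P n T (QuotientGroup.mk (⟨b, hb⟩ : ↥P.B)) =
          QuotientGroup.mk (b * (n : G) * b') := by
        rw [cellMap_mk hT, QuotientGroup.eq]
        have e : (b * (n : G))⁻¹ * (b * (n : G) * b') = b' := by group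
        rw [e]
        exact hb'
      refine ⟨⟨QuotientGroup.mk (⟨b, hb⟩ : ↥P.B), ?_⟩, Subtype.ext hg⟩
      apply hinj
      rw [hsmul, hg]
      exact hf
  exact (Nat.card_congr (Equiv.ofBijective Φ hΦ)).symm

end Abstract

variable {D : ChevalleyDatum} {F : Type*} [Field F] {η : ℕ → ℕ → ℤ}
  (hR : Sys D F η) (hT : Tbl D)

include hR hT

/-! ### Linearity of the action on the roots -/

theorem exists_func (w : WW (pair hR hT)) (a : List ℤ) :
    ∃ a' : List ℤ, ∀ r, func D a (σW hR hT w r) = func D a' r := by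
  obtain ⟨l, rfl, -⟩ := (setupW hR hT).ex w
  induction l generalizing a with
  | nil => exact ⟨a, fun r => by simp⟩
  | cons i l ih =>
    obtain ⟨a', ha'⟩ := ih (refl D i a)
    refine ⟨a', fun r => ?_⟩
    rw [pr_cons, map_mul, σW_fW, Equiv.Perm.mul_apply, func_wPerm hT i.2, ha']

/-- Coordinates of `w r` from the coordinates of `r`. -/
theorem cr_σW (w : WW (pair hR hT)) {k : ℕ} (hk : k < D.rank) (r : Fin D.nroots) :
    cr D (σW hR hT w r) k = ∑ j : Fin D.rank, cr D r j * cr D (σW hR hT w (alphaR hT j)) k := by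
  obtain ⟨a, ha⟩ := exists_func hR hT w (basis D k)
  rw [← func_basis hk, ha r, func, Finset.sum_range]
  refine Finset.sum_congr rfl fun j _ => ?_
  have := ha (alphaR hT j)
  rw [func_basis hk, func_simple hT a j.2] at this
  rw [mul_comm, this]

omit hR in
/-- A positive root has a nonzero coordinate. -/
theorem exists_cr_ne {s : ℕ} (hs : D.IsPosRoot s) : ∃ k < D.rank, cr D s k ≠ 0 := by
  rcases hT.descent s hs with ⟨i, hi, rfl⟩ | ⟨q, hq, hne, -⟩
  · refine ⟨i, hi, ?_⟩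
    rw [hT.coroot_simple i hi i hi, if_pos rfl]
    exact one_ne_zero
  · exact ⟨q, hq, hne⟩

/-- The inverse of a descent element in `W_K` takes the positive roots of `Φ_K` to negative roots. -/
theorem neg_image (K : Set (Fin D.rank)) (w : WW (pair hR hT))
    (hw : ∀ i ∈ K, LL (pair hR hT) (fW hR hT i * w) < LL (pair hR hT) w)
    (r : Fin D.nroots) (hr : D.IsPosRoot r) (hrK : D.InRootSub (Fin.val '' K) r) :
    D.IsNegRoot ((σW hR hT w)⁻¹ r).val := by
  set s := (σW hR hT w)⁻¹ r with hs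
  have hle : ∀ k < D.rank, cr D s k ≤ 0 := by
    intro k hk
    have e : s = σW hR hT w⁻¹ r := by rw [hs, map_inv]
    rw [e, cr_σW hR hT w⁻¹ hk r]
    apply Finset.sum_nonpos
    intro j _
    by_cases hj : j ∈ K
    · refine mul_nonpos_of_nonneg_of_nonpos (cr_nonneg hr _) ?_
      have := hK hR hT j w (hw j hj)
      rw [map_inv]
      exact cr_nonpos hT this k
    · have : cr D r j = 0 := by
        refine hrK.2 j j.2 ?_
        rintro ⟨i, hi, he⟩
        exact hj (Fin.ext he ▸ hi)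
      rw [this, zero_mul]
  rcases hT.pos_or_neg s.isLt with hp | hn
  · exfalso
    obtain ⟨k, hk, hne⟩ := exists_cr_ne hT hp
    exact hne (le_antisymm (hle k hk) (cr_nonneg hp k))
  · exact hn

/-- Conjugation of a root element by the inverse of an element of `N`. -/
theorem conj_inv_X (n : ↥(pair hR hT).N) (r : Fin D.nroots) : ∃ κ : F, κ ≠ 0 ∧ ∀ t : F,
    ((n : ↥(D.group F)) : GL D.Idx F)⁻¹ * X hR.toAddRel r t * ((n : ↥(D.group F)) : GL D.Idx F) =
      X hR.toAddRel ((σW hR hT (QuotientGroup.mk n))⁻¹ r).val (κ * t) := by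
  have hnN := (mem_PN hR hT).1 n.2
  have hninv : ((n : ↥(D.group F)) : GL D.Idx F)⁻¹ ∈ D.monomialSubgroup F := Subgroup.inv_mem _ hnN
  have hm := mem_mono_of_N hR hT hninv
  obtain ⟨κ, hκ, h1⟩ := conj_of_mem_N hR hT hninv hm r
  refine ⟨κ, hκ, fun t => ?_⟩
  have h2 := h1 t
  rw [inv_inv] at h2
  have h3 : (permOf ⟨((n : ↥(D.group F)) : GL D.Idx F)⁻¹, hm⟩) r =
      ((σW hR hT (QuotientGroup.mk n))⁻¹) r := by
    rw [σW_mk, ← permOf_inv]
    rfl
  rw [h3] at h2
  exact h2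

/-- The positive roots of the subsystem. -/
def posJ (D : ChevalleyDatum) (J : Set ℕ) : Set ℕ := {r | D.IsPosRoot r ∧ D.InRootSub J r}

omit hR hT in
theorem negUnipotent_le_aux (hR : Sys D F η) : D.negUnipotent F = gen hR.toAddRel {r | D.IsNegRoot r} :=
  negUnipotent_eq hR.toAddRel

/-- Conjugating by `n⁻¹` sends the positive part of `Φ_K` to `V`. -/
theorem conj_posJ (K : Set (Fin D.rank)) (n : ↥(pair hR hT).N)
    (hw : ∀ i ∈ K, LL (pair hR hT) (fW hR hT i * QuotientGroup.mk n) < LL (pair hR hT) (QuotientGroup.mk n))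
    {v : GL D.Idx F} (hv : v ∈ gen hR.toAddRel (posJ D (Fin.val '' K))) :
    ((n : ↥(D.group F)) : GL D.Idx F)⁻¹ * v * ((n : ↥(D.group F)) : GL D.Idx F) ∈ D.negUnipotent F := by
  refine gen_induction hR.toAddRel (P := fun v => ((n : ↥(D.group F)) : GL D.Idx F)⁻¹ * v *
    ((n : ↥(D.group F)) : GL D.Idx F) ∈ D.negUnipotent F) (by simp) ?_ ?_ hv
  · rintro r ⟨hr, hrK⟩ t
    obtain ⟨κ, -, h⟩ := conj_inv_X hR hT n ⟨r, hr.1⟩
    have h1 := h t
    simp only at h1
    rw [h1, negUnipotent_eq hR.toAddRel]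
    exact X_mem_gen _ (neg_image hR hT K _ hw ⟨r, hr.1⟩ hr hrK) _
  · intro a b ha hb
    have e : ((n : ↥(D.group F)) : GL D.Idx F)⁻¹ * (a * b) * ((n : ↥(D.group F)) : GL D.Idx F) =
        (((n : ↥(D.group F)) : GL D.Idx F)⁻¹ * a * ((n : ↥(D.group F)) : GL D.Idx F)) *
        (((n : ↥(D.group F)) : GL D.Idx F)⁻¹ * b * ((n : ↥(D.group F)) : GL D.Idx F)) := by group
    rw [e]
    exact Subgroup.mul_mem _ ha hb

/-- Factorisation `U = U_J · U^J`. -/
theorem U_factor (hT2 : Tbl2 D) (J : Set ℕ) {u : GL D.Idx F} (hu : u ∈ D.posUnipotent F) :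
    ∃ y ∈ D.unipotentRadical F J, ∃ v ∈ gen hR.toAddRel (posJ D J), u = y * v := by
  have hle : D.posUnipotent F ≤ D.unipotentRadical F J ⊔ gen hR.toAddRel (posJ D J) := by
    rw [posUnipotent_eq hR.toAddRel]
    refine gen_le _ ?_
    intro r hr t
    by_cases hrJ : D.InRootSub J r
    · exact Subgroup.mem_sup_right (X_mem_gen _ (show r ∈ posJ D J from ⟨hr, hrJ⟩) t)
    · refine Subgroup.mem_sup_left ?_
      rw [radical_eq hR hT]
      exact X_mem_gen _ (show r ∈ psiJ D J from ⟨hr, hrJ⟩) t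
  have hmem := hle hu
  rwa [mem_sup_iff_of_norm] at hmem
  intro h hh g hg
  have h1 : h ∈ D.posUnipotent F := by
    rw [posUnipotent_eq hR.toAddRel]
    exact gen_mono _ (fun s hs => hs.1) hh
  have h2 := parabolic_le_norm hR hT hT2 J (U_le_parabolic hR hT J h1)
  exact (Subgroup.mem_normalizer_iff.1 h2 g).1 hg

/-- On `U`: `n⁻¹ u n ∈ B` iff `u ∈ U_J`. -/
theorem conj_mem_B_iff (hT2 : Tbl2 D) (K : Set (Fin D.rank)) (n : ↥(pair hR hT).N)
    (hnP : ((n : ↥(D.group F)) : GL D.Idx F) ∈ D.parabolicSubgroup F (Fin.val '' K))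
    (hw : ∀ i ∈ K, LL (pair hR hT) (fW hR hT i * QuotientGroup.mk n) < LL (pair hR hT) (QuotientGroup.mk n))
    {u : GL D.Idx F} (hu : u ∈ D.posUnipotent F) :
    ((n : ↥(D.group F)) : GL D.Idx F)⁻¹ * u * ((n : ↥(D.group F)) : GL D.Idx F) ∈ D.borelSubgroup F ↔
      u ∈ D.unipotentRadical F (Fin.val '' K) := by
  set N₀ : GL D.Idx F := ((n : ↥(D.group F)) : GL D.Idx F) with hN₀
  have hnorm : ∀ y ∈ D.unipotentRadical F (Fin.val '' K),
      N₀⁻¹ * y * N₀ ∈ D.unipotentRadical F (Fin.val '' K) := by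
    intro y hy
    have h2 := parabolic_le_norm hR hT hT2 (Fin.val '' K) (Subgroup.inv_mem _ hnP)
    have h3 := (Subgroup.mem_normalizer_iff.1 h2 y).1 hy
    simpa using h3
  have hUB : D.unipotentRadical F (Fin.val '' K) ≤ D.borelSubgroup F :=
    le_trans (radical_le_U hR hT _) (U_le_B hR hT)
  constructor
  · intro h
    obtain ⟨y, hy, v, hv, rfl⟩ := U_factor hR hT hT2 (Fin.val '' K) hu
    have h1 := hnorm y hy
    have e : N₀⁻¹ * v * N₀ = (N₀⁻¹ * y * N₀)⁻¹ * (N₀⁻¹ * (y * v) * N₀) := by group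
    have h2 : N₀⁻¹ * v * N₀ ∈ D.borelSubgroup F ⊓ D.negUnipotent F := by
      refine ⟨?_, conj_posJ hR hT K n hw hv⟩
      rw [e]
      exact Subgroup.mul_mem _ (Subgroup.inv_mem _ (hUB h1)) h
    rw [B_inf_V hR hT, Subgroup.mem_bot] at h2
    have h3 : v = 1 := by
      have : v = N₀ * (N₀⁻¹ * v * N₀) * N₀⁻¹ := by group
      rw [this, h2]
      group
    rw [h3, mul_one]
    exact hy
  · intro h
    exact hUB (hnorm u h)

/-- The group `U_J H`. -/
noncomputable def UH (D : ChevalleyDatum) (F : Type*) [Field F] (J : Set ℕ) : Subgroup (GL D.Idx F) :=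
  D.unipotentRadical F J ⊔ D.diagonalSubgroup F

/-- The intersection of `B` and its conjugate under the top element. -/
theorem conj_mem_B_iff' (hT2 : Tbl2 D) (K : Set (Fin D.rank)) (n : ↥(pair hR hT).N)
    (hnP : ((n : ↥(D.group F)) : GL D.Idx F) ∈ D.parabolicSubgroup F (Fin.val '' K))
    (hw : ∀ i ∈ K, LL (pair hR hT) (fW hR hT i * QuotientGroup.mk n) < LL (pair hR hT) (QuotientGroup.mk n))
    (x : GL D.Idx F) :
    x ∈ UH D F (Fin.val '' K) ↔ x ∈ D.borelSubgroup F ∧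
      ((n : ↥(D.group F)) : GL D.Idx F)⁻¹ * x * ((n : ↥(D.group F)) : GL D.Idx F) ∈ D.borelSubgroup F := by
  set N₀ : GL D.Idx F := ((n : ↥(D.group F)) : GL D.Idx F) with hN₀
  have hnN : N₀ ∈ D.monomialSubgroup F := (mem_PN hR hT).1 n.2
  have hH : ∀ h ∈ D.diagonalSubgroup F, N₀⁻¹ * h * N₀ ∈ D.diagonalSubgroup F := by
    intro h hh
    have := H_norm_N hR hT (Subgroup.inv_mem _ hnN) hh
    simpa using this
  have hiff := fun u hu => conj_mem_B_iff hR hT hT2 K n hnP hw (u := u) hu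
  constructor
  · intro hx
    have hle : UH D F (Fin.val '' K) ≤ D.borelSubgroup F ⊓
        (D.borelSubgroup F).comap (MulAut.conj N₀⁻¹).toMonoidHom := by
      refine sup_le (le_inf (le_trans (radical_le_U hR hT _) (U_le_B hR hT)) ?_)
        (le_inf (H_le_B hR hT) ?_)
      · intro y hy
        rw [Subgroup.mem_comap, MulEquiv.coe_toMonoidHom, MulAut.conj_apply, inv_inv]
        exact (hiff y (radical_le_U hR hT _ hy)).2 hy
      · intro h hh
        rw [Subgroup.mem_comap, MulEquiv.coe_toMonoidHom, MulAut.conj_apply, inv_inv]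
        exact H_le_B hR hT (hH h hh)
    have h1 := Subgroup.mem_inf.1 (hle hx)
    refine ⟨h1.1, ?_⟩
    have h2 := h1.2
    rwa [Subgroup.mem_comap, MulEquiv.coe_toMonoidHom, MulAut.conj_apply, inv_inv] at h2
  · rintro ⟨hx, hx'⟩
    obtain ⟨u, hu, h, hh, rfl⟩ := (mem_B_iff hR hT).1 hx
    have e : N₀⁻¹ * u * N₀ = (N₀⁻¹ * (u * h) * N₀) * (N₀⁻¹ * h * N₀)⁻¹ := by group
    have h1 : N₀⁻¹ * u * N₀ ∈ D.borelSubgroup F := by
      rw [e]
      exact Subgroup.mul_mem _ hx' (Subgroup.inv_mem _ (H_le_B hR hT (hH h hh)))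
    exact Subgroup.mul_mem_sup ((hiff u hu).1 h1) hh

/-- A representative of the top element of `W_K`. -/
theorem exists_top_rep [Finite F] (K : Finset (Fin D.rank)) : ∃ n : ↥(pair hR hT).N,
    QuotientGroup.mk n ∈ par (fW hR hT) (K : Set (Fin D.rank)) ∧
    ((n : ↥(D.group F)) : GL D.Idx F) ∈ D.parabolicSubgroup F (Fin.val '' (K : Set (Fin D.rank))) ∧
    (∀ i ∈ (K : Set (Fin D.rank)), LL (pair hR hT) (fW hR hT i * QuotientGroup.mk n) <
      LL (pair hR hT) (QuotientGroup.mk n)) ∧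
    (∀ i ∈ (K : Set (Fin D.rank)), LL (pair hR hT) (QuotientGroup.mk n * fW hR hT i) <
      LL (pair hR hT) (QuotientGroup.mk n)) := by
  obtain ⟨y, hy, h1, h2⟩ := exists_top (setupW hR hT) (K : Set (Fin D.rank))
  obtain ⟨n, rfl⟩ := QuotientGroup.mk_surjective y
  refine ⟨n, hy, ?_, h1, h2⟩
  have h3 : (n : ↥(D.group F)) ∈ (pair hR hT).parabolic (ee hR hT '' (K : Set (Fin D.rank))) := by
    rw [mem_parabolic_iff_cell (he := ee_mem hR hT) (setupW hR hT)]
    rwa [(cell_eq_iff n).2 (self_mem_C _)]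
  rw [parabolic_pair hR hT, ChevalleyDatum.parabolicIn, Subgroup.mem_subgroupOf, Finset.coe_map] at h3
  exact h3

/-- The cell of `n` in terms of `B / U_J H`. -/
theorem card_fix_top (hT2 : Tbl2 D) (K : Set (Fin D.rank)) (n : ↥(pair hR hT).N)
    (hnP : ((n : ↥(D.group F)) : GL D.Idx F) ∈ D.parabolicSubgroup F (Fin.val '' K))
    (hw : ∀ i ∈ K, LL (pair hR hT) (fW hR hT i * QuotientGroup.mk n) < LL (pair hR hT) (QuotientGroup.mk n))
    (y : ↥(pair hR hT).B) :
    Nat.card {C : ↥(D.group F) ⧸ (pair hR hT).B // cellQ (pair hR hT) C = QuotientGroup.mk n ∧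
        (y : ↥(D.group F)) • C = C} =
      Nat.card (MulAction.fixedBy (↥(pair hR hT).B ⧸
        ((UH D F (Fin.val '' K)).subgroupOf (D.group F)).subgroupOf (pair hR hT).B) y) := by
  refine card_fix_cell n (fun x => ?_) y
  rw [Subgroup.mem_subgroupOf, conj_mem_B_iff' hR hT hT2 K n hnP hw, mem_PB hR hT, mem_PB hR hT]
  rfl

omit hR hT in
theorem radical_univ (hT : Tbl D) (hR : Sys D F η) : D.unipotentRadical F (Fin.val '' (Set.univ : Set (Fin D.rank))) = ⊥ := by
  rw [radical_eq hR hT, eq_bot_iff]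
  refine gen_le _ ?_
  rintro r ⟨hr, hr2⟩
  exfalso
  refine hr2 ⟨hr.1, fun i hi hi2 => ?_⟩
  exact absurd ⟨⟨i, hi⟩, Set.mem_univ _, rfl⟩ hi2

/-- **Steinberg's character restricted to `B`** -/
theorem steinberg_on_B [Finite F] (hT2 : Tbl2 D) (b : ↥(pair hR hT).B) :
    D.steinbergCharacter F (b : ↥(D.group F)) =
      (Nat.card (MulAction.fixedBy (↥(pair hR hT).B ⧸
        ((D.diagonalSubgroup F).subgroupOf (D.group F)).subgroupOf (pair hR hT).B) b) : ℂ) := by
  classical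
  obtain ⟨n, -, hnP, h1, h2⟩ := exists_top_rep hR hT (Finset.univ : Finset (Fin D.rank))
  rw [Finset.coe_univ] at hnP h1 h2
  rw [steinberg_eq hR hT, stChar_apply (setupW hR hT) b.2 (w := QuotientGroup.mk n)
    (fun i => h2 i (Set.mem_univ _)), card_fix_top hR hT hT2 Set.univ n hnP h1 b]
  have e : UH D F (Fin.val '' (Set.univ : Set (Fin D.rank))) = D.diagonalSubgroup F := by
    rw [UH, radical_univ hT hR, bot_sup_eq]
  rw [e]

theorem card_T : Nat.card ↥(((D.diagonalSubgroup F).subgroupOf (D.group F)).subgroupOf (pair hR hT).B) =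
    Nat.card (D.diagonalSubgroup F) := by
  have h1 : (D.diagonalSubgroup F).subgroupOf (D.group F) ≤ (pair hR hT).B := by
    intro x hx
    exact (mem_PB hR hT).2 (H_le_B hR hT (Subgroup.mem_subgroupOf.1 hx))
  rw [Nat.card_congr (Subgroup.subgroupOfEquivOfLe h1).toEquiv]
  exact Nat.card_congr (Subgroup.subgroupOfEquivOfLe (H_le_G hR hT)).toEquiv

/-- The degree. -/
theorem steinberg_one [Fintype F] (hT2 : Tbl2 D) :
    D.steinbergCharacter F 1 = (Fintype.card F : ℂ) ^ (D.nroots / 2) := by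
  have h := steinberg_on_B hR hT hT2 (1 : ↥(pair hR hT).B)
  have e1 : ((1 : ↥(pair hR hT).B) : ↥(D.group F)) = 1 := rfl
  rw [e1] at h
  rw [h, MulAction.fixedBy_one_eq_univ, Nat.card_univ]
  have h2 := Subgroup.card_mul_index (((D.diagonalSubgroup F).subgroupOf (D.group F)).subgroupOf (pair hR hT).B)
  rw [card_T hR hT, card_PB hR hT, card_B hR hT, mul_comm] at h2
  have hpos : 0 < Nat.card (D.diagonalSubgroup F) := Nat.card_pos
  have h3 := Nat.eq_of_mul_eq_mul_right hpos h2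
  rw [Cfsg.Agent.Lib.ChevBN.Stmts.card_U hR hT] at h3
  have h4 : Nat.card (↥(pair hR hT).B ⧸ ((D.diagonalSubgroup F).subgroupOf (D.group F)).subgroupOf (pair hR hT).B) =
      Fintype.card F ^ (D.nroots / 2) := h3
  rw [h4]
  push_cast
  rfl

/-- The `p`-part of the group order. -/
theorem pow_factorization [Fintype F] (p : ℕ) [Fact p.Prime] [CharP F p] :
    p ^ (Nat.card ↥(D.group F)).factorization p = Fintype.card F ^ (D.nroots / 2) := by
  obtain ⟨P, hP⟩ := Cfsg.Agent.Lib.ChevOrder.SylowU.exists_sylow hR hT p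
  have h1 := Sylow.card_eq_multiplicity P
  rw [← h1, ← Cfsg.Agent.Lib.ChevBN.Stmts.card_U hR hT]
  have h2 : Nat.card ↥(P : Subgroup ↥(D.group F)) = Nat.card ↥((D.posUnipotent F).subgroupOf (D.group F)) := by
    rw [hP]
  exact h2.trans (Nat.card_congr (Subgroup.subgroupOfEquivOfLe (U_le_G hR hT)).toEquiv)

/-- **The Steinberg character vanishes on `p`-singular elements.** -/
theorem steinberg_vanish [Fintype F] (hT2 : Tbl2 D) (p : ℕ) [Fact p.Prime] [CharP F p]
    (g : ↥(D.group F)) (hg : p ∣ orderOf g) : D.steinbergCharacter F g = 0 := by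
  have hp : p.Prime := Fact.out
  obtain ⟨n, ρ, hρ, he⟩ := steinberg_isIrr hR hT (F := F)
  have := hρ
  rw [← he]
  have hpos : Nat.card ↥(D.group F) ≠ 0 := Nat.card_pos.ne'
  refine Cfsg.Agent.Lib.Char.PRegular.character_eq_zero_of_defect_zero ρ p
    ((Nat.card ↥(D.group F)).factorization p) hp (Nat.ordProj_dvd _ _)
    (Nat.pow_succ_factorization_not_dvd hpos hp) ?_ g hg
  have h1 : ρ.character 1 = (Module.finrank ℂ (Fin n → ℂ) : ℂ) := by
    simp [Representation.character]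
  have h2 := steinberg_one hR hT hT2 (F := F)
  rw [← he, h1] at h2
  have h3 : Module.finrank ℂ (Fin n → ℂ) = Fintype.card F ^ (D.nroots / 2) := by
    exact_mod_cast h2
  rw [h3, pow_factorization hR hT p]

end Cfsg.Agent.Lib.StChar.Top
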